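import Mathlib
import Cfsg.Agent.S0205
import Cfsg.Agent.Lib.Hall.Solvable
import Cfsg.Agent.Lib.NilpotentPerm.Basic
import Cfsg.Agent.Lib.ThompsonNPC.ZJControl
import Cfsg.Agent.Lib.Qd.Basic
import Cfsg.Agent.Lib.SL2.Solvable
import Cfsg.Agent.Lib.PGroup.SylowNormal

/-!
# Groups in which every `p'`-subgroup is nilpotent: reduction to the minimal configuration

A minimal nonsolvable such group, `p ≥ 5`, is simple with all proper subgroups solvable, of even
order, and has no section `S₄` or `Qd(p)`.
-/

set_option autoImplicit false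
set_option linter.style.haveILetI false

namespace Cfsg.Agent.Lib.NilpotentPPrime

open Subgroup Cfsg

universe u

/-- Every subgroup of order prime to `p` is nilpotent. -/
def Hyp (p : ℕ) (G : Type*) [Group G] : Prop :=
  ∀ H : Subgroup G, (Nat.card H).Coprime p → Group.IsNilpotent H

/-- A minimal counterexample. -/
structure Setting (p : ℕ) (G : Type u) [Group G] [Finite G] : Prop where
  prime : p.Prime
  five : 5 ≤ p
  hyp : Hyp p G
  simple : IsSimpleGroup G
  nonsolv : ¬ Group.IsSolvable G
  proper : ∀ K : Subgroup G, K ≠ ⊤ → Group.IsSolvable K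

variable {G : Type u} [Group G] [Finite G] {p : ℕ}

theorem Hyp.subgroup (h : Hyp p G) (K : Subgroup G) : Hyp p K := fun H hH => by
  have h1 := h (H.map K.subtype) (by rwa [card_map_of_injective K.subtype_injective])
  exact @Group.nilpotent_of_mulEquiv _ _ _ _ h1 (H.equivMapOfInjective K.subtype K.subtype_injective).symm

/-- A `p'`-image of a solvable subgroup is nilpotent. -/
theorem Hyp.isNilpotent_image (h : Hyp p G) (hp : p.Prime) {K : Subgroup G}
    (hK : Group.IsSolvable K) {X : Type*} [Group X] [Finite X] {f : K →* X}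
    (hf : Function.Surjective f) (hX : (Nat.card X).Coprime p) : Group.IsNilpotent X := by
  haveI := hK
  have hG0 : Nat.card K = ordCompl[p] (Nat.card K) * ordProj[p] (Nat.card K) := by
    rw [mul_comm]; exact (Nat.ordProj_mul_ordCompl_eq_self _ _).symm
  have hcop : (ordCompl[p] (Nat.card K)).Coprime (ordProj[p] (Nat.card K)) :=
    ((Nat.coprime_ordCompl hp Nat.card_pos.ne').symm).pow_right _
  obtain ⟨U, hU⟩ := Hall.exists_card_eq hG0 hcop
  have hUi : U.index = ordProj[p] (Nat.card K) := by
    have h1 := U.card_mul_index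
    rw [hU] at h1
    exact Nat.eq_of_mul_eq_mul_left (by rw [← hU]; exact Nat.card_pos) (h1.trans hG0)
  have hnil : Group.IsNilpotent U := (h.subgroup K) U (by
    rw [hU]; exact (Nat.coprime_ordCompl hp Nat.card_pos.ne').symm)
  have hdvd : (U.map f).index = 1 := Nat.eq_one_of_dvd_coprimes (hX.pow_right _)
    (index_dvd_card _) (hUi ▸ U.index_map_dvd hf)
  refine Group.nilpotent_of_surjective (h := hnil) (f.comp U.subtype) fun x => ?_
  obtain ⟨u, hu, rfl⟩ : x ∈ U.map f := index_eq_one.1 hdvd ▸ mem_top x
  exact ⟨⟨u, hu⟩, rfl⟩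

/-- Elements of coprime orders in a `p'`-subgroup commute. -/
theorem Hyp.commute (h : Hyp p G) {H : Subgroup G} (hH : (Nat.card H).Coprime p) {x y : G}
    (hx : x ∈ H) (hy : y ∈ H) (hxy : (orderOf x).Coprime (orderOf y)) : Commute x y :=
  congrArg Subtype.val (NilpotentPerm.commute_of_coprime_orderOf (h H hH) (a := ⟨x, hx⟩)
    (b := ⟨y, hy⟩) (by rwa [orderOf_mk, orderOf_mk]))

/-- Reduction to a minimal counterexample. -/
theorem isSolvable_of_no_setting (hp : p.Prime) (h5 : 5 ≤ p)
    (H : ∀ (G : Type u) [Group G] [Finite G], Setting p G → False)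
    (G : Type u) [Group G] [Finite G] (h : Hyp p G) : Group.IsSolvable G := by
  induction hn : Nat.card G using Nat.strong_induction_on generalizing G with
  | _ n ih =>
  subst hn
  haveI := Fact.mk hp
  by_contra hns
  have hprop : ∀ K : Subgroup G, K ≠ ⊤ → Group.IsSolvable K := fun K hK => by
    refine ih _ ?_ K (h.subgroup K) rfl
    refine lt_of_le_of_ne (Nat.card_le_card_of_injective _ K.subtype_injective) fun e => hK ?_
    exact eq_top_of_card_eq _ e
  haveI : Nontrivial G := not_subsingleton_iff_nontrivial.1 fun _ => hns inferInstance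
  refine H G ⟨hp, h5, h, ⟨fun N hN => ?_⟩, hns, hprop⟩
  by_contra hN'
  rw [not_or] at hN'
  haveI := hN
  haveI := hprop N hN'.2
  suffices hq : Group.IsSolvable (G ⧸ N) from
    hns (Group.isSolvable_of_ker_le_range N.subtype (QuotientGroup.mk' N)
      (by rw [QuotientGroup.ker_mk', range_subtype]))
  by_cases hpd : p ∣ Nat.card (G ⧸ N)
  · refine ih _ ?_ (G ⧸ N) (fun Hb hHb => ?_) rfl
    · rw [N.card_eq_card_quotient_mul_card_subgroup]
      exact lt_mul_of_one_lt_right Nat.card_pos (N.one_lt_card_iff_ne_bot.2 hN'.1)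
    · set K := Hb.comap (QuotientGroup.mk' N) with hK
      have hKtop : K ≠ ⊤ := fun e => by
        have e' : Hb = ⊤ := by
          rw [← map_comap_eq_self_of_surjective (QuotientGroup.mk'_surjective N) Hb, ← hK, e]
          exact map_top_of_surjective _ (QuotientGroup.mk'_surjective N)
        rw [e', card_top] at hHb
        exact (hp.coprime_iff_not_dvd.1 hHb.symm) hpd
      exact h.isNilpotent_image hp (hprop K hKtop)
        (f := (QuotientGroup.mk' N).subgroupComap Hb)
        (MonoidHom.subgroupComap_surjective_of_surjective _ Hb (QuotientGroup.mk'_surjective N))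
        hHb
  · obtain ⟨P⟩ : Nonempty (Sylow p G) := inferInstance
    have hPN : (P : Subgroup G) ≤ N := fun x hx => by
      rw [← QuotientGroup.eq_one_iff, ← orderOf_eq_one_iff]
      obtain ⟨k, hk⟩ := IsPGroup.iff_orderOf.1 P.2 ⟨x, hx⟩
      refine Nat.eq_one_of_dvd_coprimes ((hp.coprime_iff_not_dvd.2 hpd).pow_left k).symm
        (orderOf_dvd_natCard _) ?_
      rw [← hk, orderOf_mk]
      exact orderOf_map_dvd (QuotientGroup.mk' N) x
    by_cases hP : normalizer ((P : Subgroup G) : Set G) = ⊤
    · haveI : (P : Subgroup G).Normal := normalizer_eq_top_iff.1 hP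
      obtain ⟨C, hC⟩ := exists_right_complement'_of_coprime P.card_coprime_index
      have hCcard : Nat.card C = (P : Subgroup G).index := hC.symm.index_eq_card.symm
      haveI : Group.IsNilpotent C := h C (by
        rw [hCcard, Nat.coprime_comm]; exact hp.coprime_iff_not_dvd.2 P.not_dvd_index)
      refine Group.isSolvable_of_surjective (f := (QuotientGroup.mk' N).comp C.subtype) fun q => ?_
      obtain ⟨g, rfl⟩ := QuotientGroup.mk'_surjective N q
      obtain ⟨⟨a, c⟩, hac⟩ := hC.2 g
      refine ⟨c, ?_⟩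
      simp only [MonoidHom.coe_comp, Function.comp_apply, coe_subtype, QuotientGroup.mk'_apply]
      rw [← hac, QuotientGroup.mk_mul, (QuotientGroup.eq_one_iff (a : G)).2 (hPN a.2), one_mul]
    · haveI := hprop _ hP
      refine Group.isSolvable_of_surjective
        (f := (QuotientGroup.mk' N).comp (normalizer ((P : Subgroup G) : Set G)).subtype)
        fun q => ?_
      obtain ⟨g, rfl⟩ := QuotientGroup.mk'_surjective N q
      have hfr : normalizer ((P : Subgroup G) : Set G) ⊔ N = ⊤ := by
        have := SylowNormal.normalizer_inf_sup P N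
        rwa [inf_eq_left.2 (SetLike.coe_subset_coe.2 hPN : ((P : Subgroup G) : Set G) ≤ (N : Set G))] at this
      obtain ⟨a, ha, b, hb, rfl⟩ := mem_sup_of_normal_right.1 (hfr ▸ mem_top g)
      refine ⟨⟨a, ha⟩, ?_⟩
      simp only [MonoidHom.coe_comp, Function.comp_apply, coe_subtype, QuotientGroup.mk'_apply]
      rw [QuotientGroup.mk_mul, (QuotientGroup.eq_one_iff b).2 hb, mul_one]

namespace Setting

variable (hS : Setting p G)
include hS

theorem even : 2 ∣ Nat.card G :=
  even_iff_two_dvd.1 (Nat.not_odd_iff_even.1 fun h => hS.nonsolv (S0205.result h))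

theorem p_ne_two : p ≠ 2 := by
  have := hS.five
  omega

theorem two_coprime : Nat.Coprime 2 p :=
  (Nat.coprime_primes Nat.prime_two hS.prime).2 hS.p_ne_two.symm

theorem ne_top_of_isSolvable {K : Subgroup G} (hK : Group.IsSolvable K) : K ≠ ⊤ := by
  rintro rfl
  haveI := hK
  exact hS.nonsolv (Group.isSolvable_of_surjective (f := (Subgroup.topEquiv (G := G)).toMonoidHom)
    (MulEquiv.surjective _))

theorem eq_bot_of_normal {N : Subgroup G} (hN : N.Normal) (hne : N ≠ ⊤) : N = ⊥ :=
  (@IsSimpleGroup.eq_bot_or_eq_top_of_normal G _ hS.simple N hN).resolve_right hne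

theorem normalizer_ne_top {N : Subgroup G} (h1 : N ≠ ⊥) (h2 : N ≠ ⊤) :
    normalizer (N : Set G) ≠ ⊤ := fun h =>
  h1 (hS.eq_bot_of_normal (normalizer_eq_top_iff.1 h) h2)

theorem centralizer_ne_top {x : G} (hx : x ≠ 1) : centralizer ({x} : Set G) ≠ ⊤ := by
  intro h
  have hc : x ∈ center G := mem_center_iff.2 fun y => by
    have := mem_centralizer_singleton_iff.1 (h.symm ▸ mem_top y : y ∈ centralizer ({x} : Set G))
    exact this
  rcases @IsSimpleGroup.eq_bot_or_eq_top_of_normal G _ hS.simple (center G) inferInstance with h1 | h1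
  · exact hx (mem_bot.1 (h1 ▸ hc))
  · exact hS.nonsolv (Group.isSolvable_of_comm fun a b =>
      mem_center_iff.1 (h1.symm ▸ mem_top b : b ∈ center G) a)

theorem centralizer_solvable {x : G} (hx : x ≠ 1) :
    Group.IsSolvable (centralizer ({x} : Set G)) :=
  hS.proper _ (hS.centralizer_ne_top hx)

/-- A nontrivial solvable quotient of a subgroup comes from a proper subgroup. -/
theorem ne_top_of_surjective {X : Type*} [Group X] {K : Subgroup G} {f : K →* X}
    (hf : Function.Surjective f) (hX : Nontrivial X) (h : Group.IsSolvable X ∨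
      ∃ z : X, z ≠ 1 ∧ z ∈ center X) : K ≠ ⊤ := by
  rintro rfl
  let e : G →* X := f.comp (Subgroup.topEquiv (G := G)).symm.toMonoidHom
  have he : Function.Surjective e := hf.comp (MulEquiv.surjective _)
  have hker : e.ker = ⊥ := hS.eq_bot_of_normal inferInstance fun h => by
    obtain ⟨x, hx⟩ := exists_ne (1 : X)
    obtain ⟨g, rfl⟩ := he x
    exact hx (MonoidHom.mem_ker.1 (h.symm ▸ mem_top g : g ∈ e.ker))
  have hinj := (MonoidHom.ker_eq_bot_iff e).1 hker
  rcases h with h | ⟨z, hz, hzc⟩
  · haveI := h
    exact hS.nonsolv (Group.isSolvable_of_isSolvable_injective hinj)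
  · obtain ⟨g, rfl⟩ := he z
    suffices hg : g = 1 from hz (by rw [hg, map_one])
    by_contra hg
    exact hS.centralizer_ne_top hg (eq_top_iff.2 fun y _ => mem_centralizer_singleton_iff.2
      (hinj (by rw [map_mul, map_mul, mem_center_iff.1 hzc (e y)])))

theorem sFour_free : ¬ Cfsg.Involves (Equiv.Perm (Fin 4)) G := by
  intro h
  obtain ⟨K, f, hf⟩ := ThompsonNPC.exists_hom_of_involves h
  have hcard : Nat.card (Equiv.Perm (Fin 4)) = 24 := by
    rw [Nat.card_eq_fintype_card, Fintype.card_perm]; rfl
  have hsol : Group.IsSolvable (Equiv.Perm (Fin 4)) :=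
    SL2.isSolvable_of_card_two_three (a := 3) (b := 1) hcard
  have hnil := hS.hyp.isNilpotent_image hS.prime
    (hS.proper K (hS.ne_top_of_surjective hf inferInstance (Or.inl hsol))) hf (by
      rw [hcard, Nat.coprime_comm, hS.prime.coprime_iff_not_dvd]
      intro h24
      have := hS.five
      rcases hS.prime.dvd_mul.1 ((show (24 : ℕ) = 2 ^ 3 * 3 by norm_num) ▸ h24) with h | h
      · linarith [Nat.le_of_dvd two_pos (hS.prime.dvd_of_dvd_pow h)]
      · linarith [Nat.le_of_dvd three_pos h])
  have := NilpotentPerm.commute_of_coprime_orderOf hnil (a := (Equiv.swap 0 1 : Equiv.Perm (Fin 4)))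
    (b := Equiv.swap 1 2 * Equiv.swap 0 1) (by
      haveI := Fact.mk Nat.prime_two
      haveI := Fact.mk Nat.prime_three
      rw [orderOf_eq_prime (p := 2) (by decide) (by decide),
        orderOf_eq_prime (p := 3) (by decide) (by decide)]
      decide)
  exact absurd this (by decide)

theorem qd_free : ¬ Cfsg.Involves (Cfsg.qd p) G := by
  haveI := Fact.mk hS.prime
  intro h
  obtain ⟨K, f, hf⟩ := ThompsonNPC.exists_hom_of_involves h
  let π : K →* Matrix.SpecialLinearGroup (Fin 2) (ZMod p) :=
    ((Qd.blockHom (F := ZMod p)).comp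
      (MulEquiv.subgroupCongr (Qd.qd_eq p)).toMonoidHom).comp f
  have hπ : Function.Surjective π :=
    (Qd.blockHom_surjective.comp (MulEquiv.surjective _)).comp hf
  have hns : ¬ Group.IsSolvable (Matrix.SpecialLinearGroup (Fin 2) (ZMod p)) := fun hs => by
    haveI := hs
    refine SL2.not_isSolvable_PSL (F := ZMod p) (by rw [ZMod.card]; linarith [hS.five]) ?_
    exact Group.isSolvable_of_surjective (f := QuotientGroup.mk' _) (QuotientGroup.mk'_surjective _)
  have hne : K ≠ ⊤ := by
    refine hS.ne_top_of_surjective hπ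
      (not_subsingleton_iff_nontrivial.1 fun _ => hns inferInstance) (Or.inr ⟨-1, ?_, ?_⟩)
    · intro h1
      have := congrArg (fun M : Matrix.SpecialLinearGroup (Fin 2) (ZMod p) =>
        (M : Matrix (Fin 2) (Fin 2) (ZMod p)) 0 0) h1
      simp at this
      have h2 : ((2 : ℕ) : ZMod p) = 0 := by push_cast; linear_combination -this
      rw [ZMod.natCast_eq_zero_iff] at h2
      exact absurd (Nat.le_of_dvd two_pos h2) (by linarith [hS.five])
    · exact mem_center_iff.2 fun M => Subtype.ext (by simp)
  haveI := hS.proper K hne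
  exact hns (Group.isSolvable_of_surjective hπ)

/-- An element of order prime to `p` and `2` normalising a `2`-subgroup centralises it. -/
theorem commute_of_mem_normalizer {T : Subgroup G} (hT : IsPGroup 2 T) {x : G}
    (hxp : (orderOf x).Coprime p) (hx2 : (orderOf x).Coprime 2)
    (hx : x ∈ normalizer (T : Set G)) {t : G} (ht : t ∈ T) : Commute x t := by
  have hz : zpowers x ≤ normalizer (T : Set G) := zpowers_le.2 hx
  obtain ⟨k, hk⟩ := IsPGroup.iff_card.1 hT
  refine hS.hyp.commute (H := zpowers x ⊔ T) ?_ (mem_sup_left (mem_zpowers x))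
    (mem_sup_right ht) ?_
  · refine Nat.Coprime.coprime_dvd_left (Hall.card_sup_dvd_of_le_normalizer hz) ?_
    rw [Nat.card_zpowers, hk]
    exact hxp.mul_left (hS.two_coprime.pow_left k)
  · obtain ⟨j, hj⟩ := IsPGroup.iff_orderOf.1 hT ⟨t, ht⟩
    rw [orderOf_mk] at hj
    rw [hj]
    exact hx2.pow_right _

end Setting

end Cfsg.Agent.Lib.NilpotentPPrime
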