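import Mathlib
import Cfsg.Agent.Lib.NilpotentPPrime.Basic
import Cfsg.Agent.Lib.SFourFree.Factor
import Cfsg.Agent.Lib.SFourFree.FamilyControl
import Cfsg.Agent.Lib.SolvableCore.Basic
import Cfsg.Agent.Lib.PSolvable.CoprimeQuot
import Cfsg.Agent.Lib.Involves.Basic
import Cfsg.Agent.S0215

/-!
# A strongly closed elementary abelian subgroup of a Sylow 2-subgroup

For `S ∈ Syl₂(G)` let `V` be the normal closure of `Ω₁(Z(S))` in `N(J(S))`. The family `{Z, J}`
controls strong fusion, and both `N(Z(S))`, `N(J(S))` keep `V` strongly closed.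
-/

set_option autoImplicit false
set_option linter.style.haveILetI false

namespace Cfsg.Agent.Lib.NilpotentPPrime

open Subgroup Cfsg
open Cfsg.Agent.Lib.Functor (IsSylowIn cj cj_le_iff)
open scoped commutatorElement

universe u

variable {G : Type u} [Group G] [Finite G] {p : ℕ}

/-- `O(L)` inside the ambient group. -/
def oddPart (L : Subgroup G) : Subgroup G := (pPrimeCore 2 L).map L.subtype

theorem oddPart_le (L : Subgroup G) : oddPart L ≤ L := map_subtype_le _

theorem oddPart_coprime (L : Subgroup G) : (Nat.card (oddPart L)).Coprime 2 := by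
  rw [oddPart, card_map_of_injective L.subtype_injective]
  exact PSolvable.pPrimeCore_coprime

theorem le_normalizer_oddPart (L : Subgroup G) : L ≤ normalizer (oddPart L : Set G) := fun g hg =>
  le_normalizer_map L.subtype (mem_map_of_mem L.subtype
    ((normalizer_eq_top (H := pPrimeCore 2 L)).ge (mem_top (⟨g, hg⟩ : L))))

theorem oddPart_solvable {L : Subgroup G} (hL : Group.IsSolvable L) :
    Group.IsSolvable (oddPart L) :=
  Coprime.isSolvable_of_le (oddPart_le L) hL

/-- With `O(X) = 1`, a strongly closed elementary abelian subgroup is normal. -/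
theorem normal_of_stronglyClosed {X : Type*} [Group X] [Finite X] [Group.IsSolvable X]
    (hO : pPrimeCore 2 X = ⊥) (T : Sylow 2 X) {A : Subgroup X} (hA : IsElementaryAbelian 2 A)
    (hAT : A ≤ T) (hsc : ∀ g : X, ∀ a ∈ A, g * a * g⁻¹ ∈ (T : Subgroup X) → g * a * g⁻¹ ∈ A) :
    A.Normal := by
  have : Fact (Nat.Prime 2) := ⟨Nat.prime_two⟩
  set Q := pCore 2 X with hQdef
  have hQT : Q ≤ T := PSolvable.pCore_le_sylow T
  have hQp : IsPGroup 2 Q := PSolvable.pCore_isPGroup
  have hcQ : centralizer (Q : Set X) ≤ Q :=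
    SolvableCore.centralizer_pCore_le inferInstance hO
  set A0 := A ⊓ Q with hA0
  haveI hA0n : A0.Normal := ⟨fun a ha g =>
    ⟨hsc g a ha.1 (hQT ((inferInstance : Q.Normal).conj_mem a ha.2 g)),
      (inferInstance : Q.Normal).conj_mem a ha.2 g⟩⟩
  set π := QuotientGroup.mk' A0
  haveI : (Q.map π).Normal := Subgroup.Normal.map inferInstance _ (QuotientGroup.mk'_surjective _)
  set K := centralizer (A0 : Set X) ⊓ (centralizer (Q.map π : Set (X ⧸ A0))).comap π with hK
  haveI hKn : K.Normal := by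
    haveI := Subgroup.Normal.comap (H := centralizer (Q.map π : Set (X ⧸ A0))) inferInstance π
    exact Subgroup.normal_inf_normal _ _
  have hAK : A ≤ K := by
    refine le_inf (fun a ha => mem_centralizer_iff.2 fun b hb => ElemAbelian.comm hA hb.1 ha) ?_
    intro a ha
    rw [mem_comap, mem_centralizer_iff]
    rintro _ ⟨q, hq, rfl⟩
    rw [← map_mul, ← map_mul, QuotientGroup.mk'_apply, QuotientGroup.mk'_apply, QuotientGroup.eq]
    have h1 : q * a * q⁻¹ ∈ A :=
      hsc q a ha ((T : Subgroup X).mul_mem ((T : Subgroup X).mul_mem (hQT hq) (hAT ha))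
        ((T : Subgroup X).inv_mem (hQT hq)))
    have h2 : a⁻¹ * (q⁻¹ * a * q) ∈ A0 := by
      refine ⟨A.mul_mem (A.inv_mem ha) ?_, ?_⟩
      · have := hsc q⁻¹ a ha ((T : Subgroup X).mul_mem ((T : Subgroup X).mul_mem
          ((T : Subgroup X).inv_mem (hQT hq)) (hAT ha))
          ((T : Subgroup X).inv_mem ((T : Subgroup X).inv_mem (hQT hq))))
        simpa using this
      · rw [← mul_assoc, ← mul_assoc]
        refine Q.mul_mem ?_ hq
        have := (inferInstance : Q.Normal).conj_mem q⁻¹ (Q.inv_mem hq) a⁻¹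
        simpa using this
    have e : (q * a)⁻¹ * (a * q) = a⁻¹ * (q⁻¹ * a * q) := by group
    rw [e]
    exact h2
  have hK2 : IsPGroup 2 K := by
    rintro ⟨x, hx⟩
    refine ⟨(orderOf x).factorization 2, Subtype.ext ?_⟩
    rw [SubgroupClass.coe_pow, coe_one]
    set y := x ^ 2 ^ (orderOf x).factorization 2 with hy
    have hyo : (orderOf y).Coprime 2 := by
      rw [hy, orderOf_pow' _ (by positivity), Nat.gcd_eq_right (Nat.ordProj_dvd _ 2)]
      exact (Nat.coprime_ordCompl Nat.prime_two (orderOf_pos x).ne').symm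
    obtain ⟨hyc, hyq⟩ : y ∈ K := K.pow_mem hx _
    have hyQ : y ∈ Q := by
      refine hcQ (SFourFree.stab_step' hyo (hQp.to_le inf_le_right) hyc fun v hv => ?_)
      refine (QuotientGroup.eq_one_iff _).1 ?_
      show π ⁅v, y⁆ = 1
      rw [map_commutatorElement, commutatorElement_eq_one_iff_mul_comm]
      exact mem_centralizer_iff.1 hyq _ (mem_map_of_mem π hv)
    obtain ⟨k, hk⟩ := IsPGroup.iff_orderOf.1 hQp ⟨y, hyQ⟩
    rw [orderOf_mk] at hk
    rw [← orderOf_eq_one_iff]
    exact Nat.eq_one_of_dvd_coprimes (hyo.pow_right k) dvd_rfl (dvd_of_eq hk)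
  have hAQ : A ≤ Q := hAK.trans (PSolvable.le_pCore hK2)
  rwa [hA0, inf_eq_left.2 hAQ] at hA0n

/-- `A O(X)` is normal. -/
theorem normal_sup_of_stronglyClosed {X : Type*} [Group X] [Finite X] [Group.IsSolvable X]
    (T : Sylow 2 X) {A : Subgroup X} (hA : IsElementaryAbelian 2 A) (hAT : A ≤ T)
    (hsc : ∀ g : X, ∀ a ∈ A, g * a * g⁻¹ ∈ (T : Subgroup X) → g * a * g⁻¹ ∈ A) :
    (A ⊔ pPrimeCore 2 X).Normal := by
  have : Fact (Nat.Prime 2) := ⟨Nat.prime_two⟩
  set O := pPrimeCore 2 X with hOdef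
  set π := QuotientGroup.mk' O with hπ
  have hπs : Function.Surjective π := QuotientGroup.mk'_surjective O
  have hn : (A.map π).Normal := by
    refine normal_of_stronglyClosed PSolvable.pPrimeCore_quotient_eq_bot (T.mapSurjective hπs)
      (ElemAbelian.map hA π) (map_mono hAT) ?_
    intro gb ab hab hT
    obtain ⟨a, ha, rfl⟩ := hab
    obtain ⟨g, rfl⟩ := hπs gb
    obtain ⟨t, ht, hte⟩ := hT
    have hz : g * a * g⁻¹ ∈ (T : Subgroup X) ⊔ O := by
      have h1 : t⁻¹ * (g * a * g⁻¹) ∈ O := by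
        rw [← QuotientGroup.eq]
        simpa [π] using hte
      have := ((T : Subgroup X) ⊔ O).mul_mem (mem_sup_left ht) (mem_sup_right h1)
      simpa using this
    have hTs : IsSylowIn 2 ((T : Subgroup X) ⊔ O) T :=
      (Functor.isSylowIn_top_of_sylow T).inter le_sup_left le_top
    obtain ⟨h, hh, hle⟩ := hTs.exists_cj_le (zpowers_le.2 hz) (by
      have e : zpowers (g * a * g⁻¹) = (zpowers a).map (MulAut.conj g).toMonoidHom := by
        rw [MonoidHom.map_zpowers]; rfl
      rw [e]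
      exact (T.2.to_le (zpowers_le.2 (hAT ha))).map _)
    obtain ⟨u, hu, o, ho, rfl⟩ := mem_sup_of_normal_right.1 hh
    have h2 : (o * g) * a * (o * g)⁻¹ ∈ (T : Subgroup X) := by
      have h3 := (cj_le_iff.1 hle) _ (mem_zpowers _)
      have h4 := (T : Subgroup X).mul_mem ((T : Subgroup X).mul_mem ((T : Subgroup X).inv_mem hu) h3) hu
      simpa [mul_assoc] using h4
    refine ⟨_, hsc _ a ha h2, ?_⟩
    have ho1 : π o = 1 := (QuotientGroup.eq_one_iff o).2 ho
    simp [map_mul, map_inv, ho1]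
  have := hn.comap π
  rwa [comap_map_eq, hπ, QuotientGroup.ker_mk'] at this

/-- `L = O(L) N_L(A)`. -/
theorem exists_oddPart_mul_normalizer {L A T : Subgroup G} (hL : Group.IsSolvable L)
    (hT : IsSylowIn 2 L T) (hA : IsElementaryAbelian 2 A) (hAT : A ≤ T)
    (hsc : ∀ g ∈ L, ∀ a ∈ A, g * a * g⁻¹ ∈ T → g * a * g⁻¹ ∈ A) {l : G} (hl : l ∈ L) :
    ∃ o ∈ oddPart L, ∃ n ∈ normalizer (A : Set G), n ∈ L ∧ o * n = l := by
  have : Fact (Nat.Prime 2) := ⟨Nat.prime_two⟩
  haveI := hL
  obtain ⟨T', hT'⟩ := hT.exists_sylow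
  set A' := A.subgroupOf L with hA'
  set O := pPrimeCore 2 L with hOdef
  have hAL : A ≤ L := hAT.trans hT.le
  haveI hMn : (A' ⊔ O).Normal := normal_sup_of_stronglyClosed T' (ElemAbelian.subgroupOf hA L)
    (fun x hx => by rw [hT']; exact hAT hx)
    (fun g a ha h => by
      rw [hT'] at h
      exact hsc g g.2 a ha h)
  set x : L := ⟨l, hl⟩
  have hAs : IsSylowIn 2 (A' ⊔ O) A' := by
    refine ⟨le_sup_left, ElemAbelian.isPGroup (ElemAbelian.subgroupOf hA L), fun hd => ?_⟩
    have h1 := PSolvable.card_mul_relIndex (le_sup_left : A' ≤ A' ⊔ O)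
    have h2 : Nat.card ↥(A' ⊔ O) ∣ Nat.card A' * Nat.card O :=
      Hall.card_sup_dvd_of_le_normalizer (by rw [normalizer_eq_top]; exact le_top)
    rw [← h1] at h2
    have h3 := (Nat.mul_dvd_mul_iff_left Nat.card_pos).1 h2
    exact Nat.prime_two.ne_one (Nat.eq_one_of_dvd_coprimes
      (Nat.Coprime.coprime_dvd_left h3 PSolvable.pPrimeCore_coprime) hd dvd_rfl)
  obtain ⟨m, hm, hle⟩ := hAs.exists_cj_le (Q := cj x A')
    (cj_le_iff.2 fun b hb => hMn.conj_mem b (mem_sup_left hb) x)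
    (Functor.isPGroup_cj (ElemAbelian.isPGroup (ElemAbelian.subgroupOf hA L)))
  rw [Functor.cj_cj] at hle
  have hn := Functor.mem_normalizer_of_cj_le hle
  obtain ⟨o, ho, a, ha, hoa⟩ := mem_sup_of_normal_left.1 ((sup_comm A' O) ▸ inv_mem hm :
    m⁻¹ ∈ O ⊔ A')
  have hn' : a * (m * x) ∈ normalizer (A' : Set L) := mul_mem (le_normalizer ha) hn
  refine ⟨o, mem_map_of_mem _ ho, (a * (m * x) : L), ?_, (a * (m * x) : L).2, ?_⟩
  · refine Functor.mem_normalizer_of_cj_le (cj_le_iff.2 fun b hb => ?_)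
    exact mem_subgroupOf.1 ((mem_normalizer_iff.1 hn' ⟨b, hAL hb⟩).1 hb)
  · have e : o * (a * (m * x)) = x := by rw [← mul_assoc, hoa, inv_mul_cancel_left]
    exact congrArg Subtype.val e

theorem rigid_map_of_injOn {H : Type u} [Group H] [Finite H] (f : G →* H) {S V : Subgroup G}
    (hV : V ≤ S) (hf : ∀ x ∈ S, f x = 1 → x = 1) (h : SFourFree.Rigid S V) :
    SFourFree.Rigid (S.map f) (V.map f) := by
  have hcard : ∀ X : Subgroup G, X ≤ S → Nat.card (X.map f) = Nat.card X := by
    intro X hX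
    symm
    refine Nat.card_eq_of_bijective (fun x => ⟨f x, mem_map_of_mem f x.2⟩) ⟨fun a b hab => ?_, ?_⟩
    · have h1 : f ((a : G) * (b : G)⁻¹) = 1 := by
        rw [map_mul, map_inv, show f a = f b from congrArg Subtype.val hab, mul_inv_cancel]
      exact Subtype.ext (mul_inv_eq_one.1 (hf _ (S.mul_mem (hX a.2) (S.inv_mem (hX b.2))) h1))
    · rintro ⟨_, x, hx, rfl⟩
      exact ⟨⟨x, hx⟩, rfl⟩
  have hcomm : ∀ {x y : G}, x ∈ S → y ∈ S → f x * f y = f y * f x → x * y = y * x := by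
    intro x y hx hy he
    rw [← commutatorElement_eq_one_iff_mul_comm]
    refine hf _ ?_ (by rw [map_commutatorElement, commutatorElement_eq_one_iff_mul_comm]; exact he)
    exact S.mul_mem (S.mul_mem (S.mul_mem hx hy) (S.inv_mem hx)) (S.inv_mem hy)
  have hcen : ∀ {x : G} {X : Subgroup G}, x ∈ S → X ≤ S → f x ∈ centralizer (X.map f : Set H) →
      x ∈ centralizer (X : Set G) := fun {x X} hx hX hc => mem_centralizer_iff.2 fun y hy =>
    hcomm (hX hy) hx (mem_centralizer_iff.1 hc _ (mem_map_of_mem f hy))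
  have hcen' : ∀ {x : G} {X : Subgroup G}, x ∈ centralizer (X : Set G) →
      f x ∈ centralizer (X.map f : Set H) := by
    intro x X hc
    rw [mem_centralizer_iff]
    rintro _ ⟨y, hy, rfl⟩
    rw [← map_mul, ← map_mul, mem_centralizer_iff.1 hc y hy]
  intro R hR h1 h2
  set R' := R.comap f ⊓ S with hR'
  have hRe : R'.map f = R := by
    refine le_antisymm (map_le_iff_le_comap.2 inf_le_left) fun r hr => ?_
    obtain ⟨s, hs, rfl⟩ := hR hr
    exact mem_map_of_mem f ⟨hr, hs⟩
  have hRS : R' ≤ S := inf_le_right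
  have h' := h R' hRS (commutator_le.2 fun a ha b hb => ?_) fun r hr => ?_
  rotate_left
  · refine hcen (((commutator_le_self R').trans hRS) (commutator_mem_commutator ha hb)) hV ?_
    rw [map_commutatorElement]
    exact h1 (commutator_mem_commutator ha.1 hb.1)
  · refine hcen (S.pow_mem (hRS hr) 2) hV ?_
    rw [map_pow]
    exact h2 _ hr.1
  have e1 : (V ⊓ centralizer (R' : Set G)).map f = V.map f ⊓ centralizer (R : Set H) := by
    refine le_antisymm ?_ ?_
    · rintro _ ⟨x, hx, rfl⟩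
      exact ⟨mem_map_of_mem f hx.1, hRe ▸ hcen' hx.2⟩
    · rintro _ ⟨⟨x, hx, rfl⟩, hc⟩
      rw [← hRe] at hc
      exact mem_map_of_mem f ⟨hx, hcen (hV hx) hRS hc⟩
  have e2 : (R' ⊓ centralizer (V : Set G)).map f = R ⊓ centralizer (V.map f : Set H) := by
    refine le_antisymm ?_ ?_
    · rintro _ ⟨x, hx, rfl⟩
      exact ⟨hRe ▸ mem_map_of_mem f hx.1, hcen' hx.2⟩
    · rintro y ⟨hy, hc⟩
      rw [← hRe] at hy
      obtain ⟨x, hx, rfl⟩ := hy
      exact mem_map_of_mem f ⟨hx, hcen (hRS hx) hV hc⟩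
  rw [← e1, ← e2, ← hRe, hcard _ hRS, hcard _ hV, hcard _ (inf_le_left.trans hV),
    hcard _ (inf_le_left.trans hRS)]
  exact h'

namespace Setting

variable (hS : Setting p G)
include hS

/-- The centre normaliser keeps `V` strongly closed in `S`. -/
theorem closed_in_local (S : Sylow 2 G) {V L : Subgroup G} (hV : IsElementaryAbelian 2 V)
    (hVS : V ≤ S) (hSV : (S : Subgroup G) ≤ normalizer (V : Set G))
    (hJV : normalizer (thompsonSubgroupOf 2 (S : Subgroup G) : Set G) ≤ normalizer (V : Set G))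
    (hr : SFourFree.Rigid (S : Subgroup G) V) (hL : Group.IsSolvable L) (hSL : (S : Subgroup G) ≤ L)
    {g v : G} (hg : g ∈ L) (hv : v ∈ V) (hgv : g * v * g⁻¹ ∈ (S : Subgroup G)) :
    g * v * g⁻¹ ∈ V := by
  have : Fact (Nat.Prime 2) := ⟨Nat.prime_two⟩
  haveI := hL
  set O := pPrimeCore 2 L with hO
  set π := QuotientGroup.mk' O with hπ
  have hπs : Function.Surjective π := QuotientGroup.mk'_surjective O
  have hVL : V ≤ L := hVS.trans hSL
  set S' := S.subtype hSL with hS'
  set V' := V.subgroupOf L with hV'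
  have hS'e : (S' : Subgroup L) = (S : Subgroup G).subgroupOf L := S.coe_subtype hSL
  have hVS' : V' ≤ S' := fun x hx => by rw [hS'e]; exact hVS hx
  have hinj : ∀ x ∈ (S' : Subgroup L), π x = 1 → x = 1 := fun x hx h1 => by
    have : x ∈ (S' : Subgroup L) ⊓ O := ⟨hx, (QuotientGroup.eq_one_iff x).1 h1⟩
    rwa [PSolvable.inf_eq_bot_of_isPGroup_of_coprime S'.2 PSolvable.pPrimeCore_coprime,
      mem_bot] at this
  have hfree : ¬ Cfsg.Involves (Equiv.Perm (Fin 4)) (L ⧸ O) := fun h =>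
    hS.sFour_free (Involves.of_injective L.subtype L.subtype_injective
      (Involves.of_quotient π hπs h))
  have hr' : SFourFree.Rigid ((S'.mapSurjective hπs : Sylow 2 (L ⧸ O)) : Subgroup (L ⧸ O))
      (V'.map π) := by
    rw [Sylow.coe_mapSurjective]
    refine rigid_map_of_injOn π hVS' hinj ?_
    rw [hS'e]
    exact hr.subgroupOf hSL hVL
  have hf := SFourFree.factorization hfree
    (SolvableCore.centralizer_pCore_le inferInstance PSolvable.pPrimeCore_quotient_eq_bot)
    (S'.mapSurjective hπs) (V := V'.map π) (ElemAbelian.map (ElemAbelian.subgroupOf hV L) π) (by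
      rw [Sylow.coe_mapSurjective, hS'e]
      exact (map_mono ((comap_mono hSV).trans (le_normalizer_comap L.subtype))).trans
        (le_normalizer_map π)) hr'
  have hJ' : thompsonSubgroupOf 2 ((S'.mapSurjective hπs : Sylow 2 (L ⧸ O)) : Subgroup (L ⧸ O)) =
      (thompsonSubgroupOf 2 (S' : Subgroup L)).map π := by
    have hinj' : Function.Injective (π.comp (S' : Subgroup L).subtype) := by
      refine (injective_iff_map_eq_one _).2 fun x hx => Subtype.ext (hinj x x.2 hx)
    have e := Thompson.thompsonSubgroupOf_map (p := 2) hinj' (⊤ : Subgroup ↥(S' : Subgroup L))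
    rw [← Subgroup.map_map, ← MonoidHom.range_eq_map, range_subtype,
      Thompson.thompsonSubgroupOf_top, ← Subgroup.map_map] at e
    rw [Sylow.coe_mapSurjective]
    exact e
  have hnorm : normalizer (V'.map π : Set (L ⧸ O)) = ⊤ := by
    rw [eq_top_iff, ← hf]
    refine sup_le (centralizer_le_normalizer _) ?_
    rw [hJ', PSolvable.normalizer_map_mk' O PSolvable.pPrimeCore_coprime
      (S'.2.to_le (Thompson.thompsonSubgroupOf_le _ _))]
    refine (map_mono ?_).trans (le_normalizer_map π)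
    intro x hx
    have hJG : thompsonSubgroupOf 2 (S : Subgroup G) =
        (thompsonSubgroupOf 2 (S' : Subgroup L)).map L.subtype := by
      rw [← Thompson.thompsonSubgroupOf_map L.subtype_injective, hS'e,
        map_subgroupOf_eq_of_le hSL]
    exact le_normalizer_comap L.subtype (hJV (hJG ▸ le_normalizer_map L.subtype
      (mem_map_of_mem _ hx)))
  haveI : (V'.map π).Normal := normalizer_eq_top_iff.1 hnorm
  have hn : (V' ⊔ O).Normal := by
    have := (inferInstance : (V'.map π).Normal).comap π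
    rwa [comap_map_eq, hπ, QuotientGroup.ker_mk'] at this
  have h1 := hn.conj_mem ⟨v, hVL hv⟩ (mem_sup_left hv) ⟨g, hg⟩
  obtain ⟨w, hw, o, ho, he⟩ := mem_sup_of_normal_right.1 h1
  have ho1 : o = 1 := by
    refine hinj o ?_ ((QuotientGroup.eq_one_iff o).2 ho)
    have : o = w⁻¹ * (⟨g, hg⟩ * ⟨v, hVL hv⟩ * ⟨g, hg⟩⁻¹) := by rw [← he, inv_mul_cancel_left]
    rw [this]
    refine (S' : Subgroup L).mul_mem ((S' : Subgroup L).inv_mem (hVS' hw)) ?_
    rw [hS'e]
    exact hgv
  rw [ho1, mul_one] at he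
  rw [he] at hw
  exact hw

/-- The strongly closed subgroup. -/
theorem exists_closed : ∃ (S : Sylow 2 G) (V : Subgroup G), IsElementaryAbelian 2 V ∧
    V ≤ S ∧ (S : Subgroup G) ≤ normalizer (V : Set G) ∧ V ≠ ⊥ ∧
    ∀ g : G, ∀ v ∈ V, g * v * g⁻¹ ∈ (S : Subgroup G) → g * v * g⁻¹ ∈ V := by
  have : Fact (Nat.Prime 2) := ⟨Nat.prime_two⟩
  have hfree := hS.sFour_free
  obtain ⟨T, -, hT, hTd, hctl⟩ := SFourFree.FamilyControl.familyControls_ce hfree
  rw [relIndex_top_right] at hTd
  set S := hT.toSylow hTd with hSdef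
  have hSe : (S : Subgroup G) = T := hT.toSylow_coe hTd
  rw [← hSe] at hctl
  have hS1 : (S : Subgroup G) ≠ ⊥ := S.ne_bot_of_dvd_card hS.even
  have hS2 : 2 ∣ Nat.card (S : Subgroup G) := S.isPGroup'.card_eq_or_dvd.resolve_left
    fun h => hS1 (eq_bot_of_card_eq _ h)
  have hStop : (S : Subgroup G) ≠ ⊤ := hS.ne_top_of_isSolvable
    (by haveI := S.isPGroup'.isNilpotent; infer_instance)
  set J := thompsonSubgroupOf 2 (S : Subgroup G) with hJ
  have hJS : J ≤ S := Thompson.thompsonSubgroupOf_le _ _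
  set N := normalizer (J : Set G) with hN
  haveI hNs : Group.IsSolvable N := hS.proper N (hS.normalizer_ne_top
    (Thompson.thompsonSubgroupOf_ne_bot hS2) fun h => hStop (eq_top_iff.2 (h ▸ hJS)))
  have hSN : (S : Subgroup G) ≤ N := le_normalizer.trans (Thompson.normalizer_le 2 _)
  set ZS := (S : Subgroup G) ⊓ centralizer ((S : Subgroup G) : Set G) with hZS
  set ZJ := J ⊓ centralizer (J : Set G) with hZJ
  set Z := omegaOne 2 ZS with hZdef
  have hZZJ : Z ≤ omegaOne 2 ZJ := Omega.le_iff.2 fun x hx hx2 => by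
    refine Omega.mem_of_pow_eq_one ?_ hx2
    have hxc : x ∈ centralizer (J : Set G) :=
      centralizer_le (SetLike.coe_subset_coe.2 hJS) hx.2
    exact ⟨Thompson.mem_of_mem_centralizer hx.1 hx2 hxc, hxc⟩
  have hNW : N ≤ normalizer (omegaOne 2 ZJ : Set G) :=
    (Coprime.le_normalizer_inf_centralizer le_rfl le_rfl).trans (Omega.normalizer_le 2 _)
  have hWJ : omegaOne 2 ZJ ≤ J := (Omega.le_self _ _).trans inf_le_left
  have hZN : Z ≤ N := (hZZJ.trans hWJ).trans (hJS.trans hSN)
  set V0 : Subgroup N := normalClosure ((Z.subgroupOf N : Subgroup N) : Set N) with hV0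
  haveI : V0.Normal := normalClosure_normal
  haveI : ((omegaOne 2 ZJ).subgroupOf N).Normal :=
    (normal_subgroupOf_iff_le_normalizer (hWJ.trans (hJS.trans hSN))).2 hNW
  have hV0W : V0 ≤ (omegaOne 2 ZJ).subgroupOf N :=
    normalClosure_le_normal (fun x hx => hZZJ hx)
  have hV0el : IsElementaryAbelian 2 V0 :=
    ElemAbelian.mono (ElemAbelian.subgroupOf (Omega.inter_centralizer_isElementaryAbelian J) N) hV0W
  set S0 := S.subtype hSN with hS0
  have hS0e : (S0 : Subgroup N) = (S : Subgroup G).subgroupOf N := S.coe_subtype hSN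
  have hgen : V0 ≤ ⨆ P : Sylow 2 N, V0 ⊓ centralizer ((P : Subgroup N) : Set N) := by
    refine (closure_le _).2 fun x hx => ?_
    obtain ⟨z, hz, hc⟩ := Group.mem_conjugatesOfSet_iff.1 hx
    obtain ⟨g, rfl⟩ := isConj_iff.1 hc
    refine mem_iSup_of_mem (g • S0) ⟨normalClosure_normal.conj_mem z (subset_normalClosure hz) g,
      mem_centralizer_iff.2 ?_⟩
    intro w hw
    rw [Sylow.coe_subgroup_smul, Subgroup.pointwise_smul_def] at hw
    obtain ⟨s, hs, rfl⟩ := hw
    rw [hS0e] at hs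
    have h1 : s * z = z * s :=
      Subtype.ext (mem_centralizer_iff.1 ((Omega.le_self _ _ hz).2) _ (mem_subgroupOf.1 hs))
    show g * s * g⁻¹ * (g * z * g⁻¹) = g * z * g⁻¹ * (g * s * g⁻¹)
    calc g * s * g⁻¹ * (g * z * g⁻¹) = g * (s * z) * g⁻¹ := by group
      _ = g * (z * s) * g⁻¹ := by rw [h1]
      _ = _ := by group
  set V := V0.map N.subtype with hV
  have hVel : IsElementaryAbelian 2 V := ElemAbelian.map hV0el _
  have hrN : SFourFree.Rigid N V := SFourFree.rigid_of_normal N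
    (fun h => hfree (Involves.of_injective N.subtype N.subtype_injective h)) V0 hV0el
    (SFourFree.twoKer_le (SylowCentre.pCore_quotient_eq_bot hgen))
  have hVS : V ≤ (S : Subgroup G) := by
    rintro _ ⟨v, hv, rfl⟩
    exact hJS (hWJ (hV0W hv))
  have hNV : N ≤ normalizer (V : Set G) := fun g hg =>
    le_normalizer_map N.subtype (mem_map_of_mem N.subtype
      ((normalizer_eq_top (H := V0)).ge (mem_top (⟨g, hg⟩ : N))))
  have hZV : Z ≤ V := fun z hz => ⟨⟨z, hZN hz⟩, subset_normalClosure hz, rfl⟩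
  have hZS1 : ZS ≠ ⊥ := by
    intro h
    obtain ⟨z, hz, hz1, -, hzc⟩ := PReduced.exists_order_p_central S.isPGroup' le_rfl
      le_normalizer hS1
    exact hz1 (mem_bot.1 (h ▸ (⟨hz, hzc⟩ : z ∈ ZS)))
  have hV1 : V ≠ ⊥ := fun h => Omega.ne_bot_of_isPGroup (S.isPGroup'.to_le inf_le_left) hZS1
    (le_bot_iff.1 (h ▸ hZV))
  set L := normalizer (ZS : Set G) with hL
  have hLs : Group.IsSolvable L := hS.proper L (hS.normalizer_ne_top hZS1
    fun h => hStop (eq_top_iff.2 (h ▸ inf_le_left)))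
  have hSL : (S : Subgroup G) ≤ L :=
    le_normalizer.trans (Coprime.le_normalizer_inf_centralizer le_rfl le_rfl)
  refine ⟨S, V, hVel, hVS, hSN.trans hNV, hV1, fun g v hv hgv => ?_⟩
  obtain ⟨n, c, hc0, hcs, hcA, hcl⟩ := hctl {v} g (mem_top g)
    (Set.singleton_subset_iff.2 (hVS hv)) (by rintro _ ⟨a, rfl, rfl⟩; exact hgv)
  suffices H : ∀ i, c i * v * (c i)⁻¹ ∈ V by
    rw [← hcl v rfl]; exact H _
  intro i
  induction i using Fin.induction with
  | zero => simpa [hc0] using hv
  | succ i ih =>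
    obtain ⟨W, hW, -, hn⟩ := hcs i
    rw [SFourFree.FamilyControl.indFam_ceFam] at hW
    have hS' : c i.succ * v * (c i.succ)⁻¹ ∈ (S : Subgroup G) :=
      hcA i.succ ⟨v, rfl, rfl⟩
    have e : c i.succ * v * (c i.succ)⁻¹ = (c i.succ * (c i.castSucc)⁻¹) *
        (c i.castSucc * v * (c i.castSucc)⁻¹) * (c i.succ * (c i.castSucc)⁻¹)⁻¹ := by group
    rw [e] at hS' ⊢
    rcases hW with rfl | rfl
    · exact hS.closed_in_local S hVel hVS (hSN.trans hNV) hNV (hrN.mono hSN) hLs hSL hn ih hS'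
    · exact (mem_normalizer_iff.1 (hNV hn) _).1 ih

end Setting

end Cfsg.Agent.Lib.NilpotentPPrime
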