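import Mathlib
import Cfsg.Agent.Lib.NilpotentPPrime.Closed
import Cfsg.Agent.Lib.Coprime.Generation
import Cfsg.Agent.Lib.SECount.Basic
import Cfsg.Agent.Lib.PReduced.Kieler
import Cfsg.Agent.S1279
import Cfsg.Agent.S0217

/-!
# The strongly embedded subgroup

With `V` strongly closed, the signalizer functor `v ↦ O(C(v))` gives a proper subgroup `X` holding
`N(V)` and all `C(v)`; it is strongly embedded and controls the `p'`-elements it contains.
-/

set_option autoImplicit false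
set_option linter.style.haveILetI false

namespace Cfsg.Agent.Lib.NilpotentPPrime

open Subgroup Cfsg
open Cfsg.Agent.Lib.Functor (IsSylowIn cj cj_le_iff cj_cj)

universe u

variable {G : Type u} [Group G] [Finite G] {p : ℕ}

/-- A subgroup `V` strongly closed in the Sylow 2-subgroup `S`. -/
structure Data (p : ℕ) (S : Sylow 2 G) (V : Subgroup G) : Prop where
  setting : Setting p G
  elem : IsElementaryAbelian 2 V
  le : V ≤ S
  le_normalizer : (S : Subgroup G) ≤ normalizer (V : Set G)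
  ne_bot : V ≠ ⊥
  closed : ∀ g : G, ∀ v ∈ V, g * v * g⁻¹ ∈ (S : Subgroup G) → g * v * g⁻¹ ∈ V

theorem cj_centralizer (g x : G) :
    cj g (centralizer ({x} : Set G)) = centralizer ({g * x * g⁻¹} : Set G) := by
  ext y
  rw [Functor.mem_cj, mem_centralizer_singleton_iff, mem_centralizer_singleton_iff]
  constructor <;> intro h
  · calc y * (g * x * g⁻¹) = g * (g⁻¹ * y * g * x) * g⁻¹ := by group
      _ = g * (x * (g⁻¹ * y * g)) * g⁻¹ := by rw [h]
      _ = _ := by group
  · calc g⁻¹ * y * g * x = g⁻¹ * (y * (g * x * g⁻¹)) * g := by group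
      _ = g⁻¹ * (g * x * g⁻¹ * y) * g := by rw [h]
      _ = _ := by group

theorem cj_oddPart (g : G) (L : Subgroup G) : cj g (oddPart L) = oddPart (cj g L) := by
  have h := PSolvable.map_pPrimeCore_equiv (p := 2) ((MulAut.conj g).subgroupMap L)
  show ((pPrimeCore 2 L).map L.subtype).map (MulAut.conj g : G →* G) =
    (pPrimeCore 2 ↥(L.map (MulAut.conj g : G →* G))).map (L.map (MulAut.conj g : G →* G)).subtype
  rw [← h, Subgroup.map_map, Subgroup.map_map]
  rfl

namespace Data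

variable {S : Sylow 2 G} {V : Subgroup G} (hD : Data p S V)
include hD

theorem isPGroup : IsPGroup 2 V := ElemAbelian.isPGroup hD.elem

theorem sq {v : G} (hv : v ∈ V) : v ^ 2 = 1 := hD.elem.2 v hv

theorem invo {v : G} (hv : v ∈ V) (h1 : v ≠ 1) : orderOf v = 2 :=
  orderOf_eq_prime (hD.sq hv) h1

theorem exists_ne_one : ∃ v ∈ V, v ≠ 1 := (ne_bot_iff_exists_ne_one.1 hD.ne_bot).elim
  fun v hv => ⟨v, v.2, fun h => hv (Subtype.ext h)⟩

theorem le_centralizer {v : G} (hv : v ∈ V) : V ≤ centralizer ({v} : Set G) := fun _ hw =>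
  mem_centralizer_singleton_iff.2 (ElemAbelian.comm hD.elem hw hv)

/-- `V` is weakly closed in any 2-subgroup, and strongly closed. -/
theorem closed_in {R : Subgroup G} (hR : IsPGroup 2 R) (hVR : V ≤ R) {g v : G} (hv : v ∈ V)
    (hgv : g * v * g⁻¹ ∈ R) : g * v * g⁻¹ ∈ V := by
  have : Fact (Nat.Prime 2) := ⟨Nat.prime_two⟩
  obtain ⟨y, -, hy⟩ := (Functor.isSylowIn_top_of_sylow S).exists_cj_le le_top hR
  have hyV : cj y V = V := eq_of_le_of_card_ge (cj_le_iff.2 fun w hw =>
    hD.closed y w hw (cj_le_iff.1 hy w (hVR hw))) (Functor.card_cj y V).ge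
  have h1 : y * (g * v * g⁻¹) * y⁻¹ ∈ (S : Subgroup G) := cj_le_iff.1 hy _ hgv
  have h2 := hD.closed (y * g) v hv (by
    rwa [show y * g * v * (y * g)⁻¹ = y * (g * v * g⁻¹) * y⁻¹ by group])
  rw [← hyV, Functor.mem_cj] at h2
  convert h2 using 1
  group

theorem eq_of_common {R : Subgroup G} (hR : IsPGroup 2 R) (hVR : V ≤ R) {g : G}
    (hg : cj g V ≤ R) : cj g V = V :=
  eq_of_le_of_card_ge (cj_le_iff.2 fun _ hv => hD.closed_in hR hVR hv (cj_le_iff.1 hg _ hv))
    (Functor.card_cj g V).ge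

theorem exists_normalizer_conj {g v : G} (hv : v ∈ V) (hgv : g * v * g⁻¹ ∈ V) :
    ∃ n ∈ normalizer (V : Set G), n * v * n⁻¹ = g * v * g⁻¹ := by
  have : Fact (Nat.Prime 2) := ⟨Nat.prime_two⟩
  set H := centralizer ({g * v * g⁻¹} : Set G) with hH
  have h1 : cj g V ≤ H := by
    rw [hH, ← cj_centralizer]
    exact Functor.cj_mono g (hD.le_centralizer hv)
  obtain ⟨T, hT, hVT⟩ := Functor.exists_isSylowIn (p := 2) (hD.le_centralizer hgv) hD.isPGroup
  obtain ⟨h, hh, hle⟩ := hT.exists_cj_le h1 (Functor.isPGroup_cj hD.isPGroup)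
  rw [cj_cj] at hle
  refine ⟨h * g, Functor.mem_normalizer_of_cj_eq (hD.eq_of_common hT.isPGroup hVT hle), ?_⟩
  calc h * g * v * (h * g)⁻¹ = h * (g * v * g⁻¹) * h⁻¹ := by group
    _ = g * v * g⁻¹ := by rw [mem_centralizer_singleton_iff.1 hh]; group

theorem card_le_sq {s : G} (hs : s ∈ normalizer (V : Set G)) (hs2 : s * s = 1) :
    Nat.card V ≤ Nat.card ↥(V ⊓ centralizer ({s} : Set G)) ^ 2 := by
  have hsi : s⁻¹ = s := inv_eq_of_mul_eq_one_right hs2
  have hmem : ∀ v ∈ V, s * v * s⁻¹ ∈ V := fun v hv => (mem_normalizer_iff.1 hs v).1 hv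
  let φ : V →* V :=
    { toFun := fun v => ⟨(v : G) * (s * v * s⁻¹), V.mul_mem v.2 (hmem _ v.2)⟩
      map_one' := Subtype.ext (by simp)
      map_mul' := fun a b => Subtype.ext (by
        show (a : G) * b * (s * (a * b) * s⁻¹) = a * (s * a * s⁻¹) * (b * (s * b * s⁻¹))
        have h := ElemAbelian.comm hD.elem b.2 (hmem _ a.2)
        calc (a : G) * b * (s * (a * b) * s⁻¹)
            = a * ((b : G) * (s * a * s⁻¹)) * (s * b * s⁻¹) := by group
          _ = _ := by rw [h]; group) }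
  have hC : ∀ v : V, φ v = 1 ↔ (v : G) ∈ centralizer ({s} : Set G) := fun v => by
    rw [mem_centralizer_singleton_iff]
    have hv : ((v : G))⁻¹ = v := inv_eq_of_mul_eq_one_right (by rw [← pow_two]; exact hD.sq v.2)
    constructor
    · intro h
      have h1 : (v : G) * (s * v * s⁻¹) = 1 := congrArg Subtype.val h
      have h2 : s * v * s⁻¹ = v := (inv_eq_of_mul_eq_one_right h1).symm.trans hv
      calc (v : G) * s = s * v * s⁻¹ * s := by rw [h2]
        _ = s * v := by group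
    · intro h
      refine Subtype.ext ?_
      show (v : G) * (s * v * s⁻¹) = 1
      rw [← h, mul_inv_cancel_right, ← pow_two]
      exact hD.sq v.2
  have hker : Nat.card φ.ker ≤ Nat.card ↥(V ⊓ centralizer ({s} : Set G)) :=
    Nat.card_le_card_of_injective (fun v => ⟨((v : V) : G), (v : V).2, (hC _).1 v.2⟩)
      fun a b h => Subtype.ext (Subtype.ext (congrArg (fun x : ↥(V ⊓ centralizer ({s} : Set G)) =>
        (x : G)) h))
  have hran : Nat.card φ.range ≤ Nat.card ↥(V ⊓ centralizer ({s} : Set G)) := by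
    refine Nat.card_le_card_of_injective (fun w => ⟨((w : V) : G), (w : V).2, ?_⟩)
      fun a b h => Subtype.ext (Subtype.ext (congrArg (fun x : ↥(V ⊓ centralizer ({s} : Set G)) =>
        (x : G)) h))
    obtain ⟨v, hv⟩ := w.2
    rw [← hv]
    refine mem_centralizer_singleton_iff.2 ?_
    show (v : G) * (s * v * s⁻¹) * s = s * ((v : G) * (s * v * s⁻¹))
    rw [hsi]
    calc (v : G) * (s * v * s) * s = (v : G) * (s * v) * (s * s) := by group
      _ = (v : G) * (s * v) := by rw [hs2, mul_one]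
      _ = (v * (s * v * s⁻¹)) * s := by group
      _ = (s * v * s⁻¹ * v) * s := by rw [ElemAbelian.comm hD.elem v.2 (hmem _ v.2)]
      _ = s * v * (s * v * s) := by rw [hsi]; group
      _ = s * ((v : G) * (s * v * s)) := by group
  rw [card_eq_card_quotient_mul_card_subgroup φ.ker,
    Nat.card_congr (QuotientGroup.quotientKerEquivRange φ).toEquiv, pow_two]
  exact Nat.mul_le_mul hran hker

/-- An element of odd order prime to `p` normalising `V` centralises it. -/
theorem commute_of_coprime {x : G} (hx2 : (orderOf x).Coprime 2) (hxp : (orderOf x).Coprime p)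
    (hx : x ∈ normalizer (V : Set G)) {v : G} (hv : v ∈ V) : Commute x v :=
  hD.setting.commute_of_mem_normalizer hD.isPGroup hxp hx2 hx hv

/-- The index of `C_{N(V)}(v)` in `N(V)` is the length of the orbit of `v`. -/
theorem index_centralizer_normalizer {v : G} :
    ((centralizer ({v} : Set G)).subgroupOf (normalizer (V : Set G))).index =
      Nat.card {w : G // ∃ n ∈ normalizer (V : Set G), n * v * n⁻¹ = w} := by
  set M := normalizer (V : Set G)
  refine Nat.card_eq_of_bijective (Quotient.lift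
    (fun n : M => (⟨(n : G) * v * (n : G)⁻¹, n, n.2, rfl⟩ :
      {w : G // ∃ n ∈ M, n * v * n⁻¹ = w})) ?_) ⟨?_, ?_⟩
  · intro a b hab
    have h := QuotientGroup.leftRel_apply.1 hab
    rw [mem_subgroupOf, coe_mul, coe_inv, mem_centralizer_singleton_iff] at h
    refine Subtype.ext ?_
    show (a : G) * v * (a : G)⁻¹ = (b : G) * v * (b : G)⁻¹
    calc (a : G) * v * (a : G)⁻¹ = (a : G) * (v * ((a : G)⁻¹ * b)) * (b : G)⁻¹ := by group
      _ = (a : G) * ((a : G)⁻¹ * b * v) * (b : G)⁻¹ := by rw [h]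
      _ = _ := by group
  · intro x y
    induction x using QuotientGroup.induction_on
    induction y using QuotientGroup.induction_on
    rename_i a b
    intro hxy
    have h : (a : G) * v * (a : G)⁻¹ = (b : G) * v * (b : G)⁻¹ := congrArg Subtype.val hxy
    rw [QuotientGroup.eq, mem_subgroupOf, coe_mul, coe_inv, mem_centralizer_singleton_iff]
    calc (a : G)⁻¹ * b * v = (a : G)⁻¹ * ((b : G) * v * (b : G)⁻¹) * b := by group
      _ = (a : G)⁻¹ * ((a : G) * v * (a : G)⁻¹) * b := by rw [h]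
      _ = _ := by group
  · rintro ⟨w, n, hn, rfl⟩
    exact ⟨QuotientGroup.mk ⟨n, hn⟩, rfl⟩

/-- A prime `q ≠ 2, p` does not divide that index. -/
theorem not_dvd_index {v : G} (hv : v ∈ V) {q : ℕ} [Fact q.Prime] (hq2 : q ≠ 2) (hqp : q ≠ p) :
    ¬ q ∣ ((centralizer ({v} : Set G)).subgroupOf (normalizer (V : Set G))).index := by
  obtain ⟨P⟩ : Nonempty (Sylow q ↥(normalizer (V : Set G))) := inferInstance
  intro h
  refine P.not_dvd_index (h.trans (index_dvd_of_le fun x hx => mem_subgroupOf.2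
    (mem_centralizer_singleton_iff.2 (hD.commute_of_coprime ?_ ?_ x.2 hv).eq)))
  all_goals
    obtain ⟨k, hk⟩ := IsPGroup.iff_orderOf.1 P.2 ⟨x, hx⟩
    rw [orderOf_mk] at hk
    rw [orderOf_coe, hk]
  · exact ((Nat.coprime_primes Fact.out Nat.prime_two).2 hq2).pow_left k
  · exact ((Nat.coprime_primes Fact.out hD.setting.prime).2 hqp).pow_left k

theorem eight_le : 8 ≤ Nat.card V := by
  have : Fact (Nat.Prime 2) := ⟨Nat.prime_two⟩
  obtain ⟨k, hk⟩ := IsPGroup.iff_card.1 hD.isPGroup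
  by_contra hlt
  have hk2 : k ≤ 2 := by
    by_contra h
    exact hlt (hk ▸ Nat.pow_le_pow_right two_pos (by omega : 3 ≤ k))
  obtain ⟨v, hvV, hv1, -, hvc⟩ := PReduced.exists_order_p_central (p := 2) S.isPGroup' hD.le
    hD.le_normalizer hD.ne_bot
  have hvS : ∀ s ∈ (S : Subgroup G), s * v = v * s := mem_centralizer_iff.1 hvc
  set M := normalizer (V : Set G) with hM
  set K := (centralizer ({v} : Set G)).subgroupOf M with hK
  have hodd : ¬ 2 ∣ K.index := fun h => (S.subtype hD.le_normalizer).not_dvd_index (h.trans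
    (index_dvd_of_le fun x hx => mem_subgroupOf.2 (mem_centralizer_singleton_iff.2
      (hvS _ (mem_subgroupOf.1 ((S.coe_subtype hD.le_normalizer).le hx))))))
  have hle : K.index ≤ 3 := by
    rw [hK, hD.index_centralizer_normalizer]
    have h1 : Nat.card {w : G // w ∈ V ∧ w ≠ 1} + 1 ≤ 4 := by
      refine le_trans ?_ ((hk.le).trans (Nat.pow_le_pow_right two_pos hk2))
      rw [← Finite.card_option]
      refine Nat.card_le_card_of_injective
        (fun o => o.elim (1 : V) fun w => ⟨w.1, w.2.1⟩) ?_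
      rintro (_ | a) (_ | b) h
      · rfl
      · exact absurd (congrArg Subtype.val h).symm b.2.2
      · exact absurd (congrArg Subtype.val h) a.2.2
      · exact congrArg some (Subtype.ext (congrArg (fun x : V => (x : G)) h))
    refine le_trans (Nat.card_le_card_of_injective (fun w => (⟨w.1, ?_, ?_⟩ :
      {w : G // w ∈ V ∧ w ≠ 1})) fun a b h => Subtype.ext (congrArg (fun x :
        {w : G // w ∈ V ∧ w ≠ 1} => x.1) h)) (by omega)
    · obtain ⟨n, hn, e⟩ := w.2
      exact e ▸ (mem_normalizer_iff.1 hn v).1 hvV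
    · obtain ⟨n, hn, e⟩ := w.2
      exact fun h => hv1 (conj_eq_one_iff.1 (e.trans h))
  have h3 : ¬ 3 ∣ K.index := by
    haveI : Fact (Nat.Prime 3) := ⟨Nat.prime_three⟩
    exact hD.not_dvd_index hvV (by norm_num) (by have := hD.setting.five; omega)
  have hpos : K.index ≠ 0 := index_ne_zero_of_finite
  have hK1 : K.index = 1 := by omega
  have hiso : ∀ g : G, g * v * g⁻¹ ∈ S → g * v * g⁻¹ = v := by
    intro g hg
    obtain ⟨n, hn, e⟩ := hD.exists_normalizer_conj hvV (hD.closed g v hvV hg)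
    have hnc : (⟨n, hn⟩ : M) ∈ K := index_eq_one.1 hK1 ▸ mem_top _
    rw [← e, mem_centralizer_singleton_iff.1 (mem_subgroupOf.1 hnc), mul_inv_cancel_right]
  obtain ⟨N, hN, hNodd, hNc⟩ := S0215.result S v (hD.invo hvV hv1) (hD.le hvV) hiso
  have hNbot : N = ⊥ := hD.setting.eq_bot_of_normal hN fun e => by
    rw [e, card_top] at hNodd
    exact Nat.not_even_iff_odd.2 hNodd (even_iff_two_dvd.2 hD.setting.even)
  refine hD.setting.centralizer_ne_top hv1 (eq_top_iff.2 fun g _ => ?_)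
  rw [mem_centralizer_singleton_iff]
  have h1 := hNbot ▸ hNc g
  rw [mem_bot, ← commutatorElement_def, commutatorElement_eq_one_iff_mul_comm] at h1
  exact h1.symm

theorem le_centralizer_oddPart {T : Subgroup G} {v : G} (hv : v ∈ V) (hv1 : v ≠ 1)
    (hT : IsSylowIn 2 (centralizer ({v} : Set G)) T) (hVT : V ≤ T) {l : G}
    (hl : l ∈ centralizer ({v} : Set G)) :
    ∃ o ∈ centralizerPPrimeCore 2 v, ∃ n ∈ normalizer (V : Set G), o * n = l := by
  obtain ⟨o, ho, n, hn, -, e⟩ := exists_oddPart_mul_normalizer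
    (hD.setting.centralizer_solvable hv1) hT hD.elem hVT
    (fun g _ a ha h => hD.closed_in hT.isPGroup hVT ha h) hl
  exact ⟨o, ho, n, hn, e⟩

end Data

/-- A strongly embedded subgroup containing `N(V)`. -/
structure Emb (p : ℕ) (S : Sylow 2 G) (V X : Subgroup G) : Prop where
  data : Data p S V
  normalizer_le : normalizer (V : Set G) ≤ X
  embedded : Cfsg.IsStronglyEmbedded X

theorem exists_emb (hS : Setting p G) : ∃ (S : Sylow 2 G) (V X : Subgroup G), Emb p S V X := by
  have : Fact (Nat.Prime 2) := ⟨Nat.prime_two⟩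
  obtain ⟨S, V, h1, h2, h3, h4, h5⟩ := hS.exists_closed
  have hD : Data p S V := ⟨hS, h1, h2, h3, h4, h5⟩
  have h8 := hD.eight_le
  set θ : G → Subgroup G := fun a => centralizerPPrimeCore 2 a with hθ
  have hsf := S1279.result 2 V hD.elem (le_trans (by norm_num) h8)
    fun a _ ha1 => hS.centralizer_solvable ha1
  obtain ⟨hWodd, -⟩ := S0217.result (p := 2) V (fun a ha b hb => ElemAbelian.comm hD.elem ha hb)
    hD.elem.2 (le_trans (by norm_num) h8) θ hsf.1.1 hsf.1.2.1 hsf.1.2.2.1 hsf.2 hsf.1.2.2.2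
  set W := ⨆ a : {a : G // a ∈ V ∧ a ≠ 1}, θ a with hW
  have hWtop : W ≠ ⊤ := fun e => hWodd (by rw [e, card_top]; exact hS.even)
  have hWθ : ∀ v ∈ V, v ≠ 1 → θ v ≤ W := fun v hv hv1 =>
    le_iSup (fun a : {a : G // a ∈ V ∧ a ≠ 1} => θ a) ⟨v, hv, hv1⟩
  have hNW : normalizer (V : Set G) ≤ normalizer (W : Set G) := fun n hn => by
    refine Functor.mem_normalizer_of_cj_le ?_
    rw [cj, hW, Subgroup.map_iSup]
    refine iSup_le fun a => ?_
    have hmem : n * a * n⁻¹ ∈ V := (mem_normalizer_iff.1 hn _).1 a.2.1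
    refine le_trans (le_of_eq ?_) (hWθ _ hmem fun h => a.2.2 (conj_eq_one_iff.1 h))
    exact (cj_oddPart n _).trans (congrArg oddPart (cj_centralizer n a.1))
  have hVtop : V ≠ ⊤ := hS.ne_top_of_isSolvable
    (Group.isSolvable_of_comm fun a b => Subtype.ext (ElemAbelian.comm hD.elem a.2 b.2))
  obtain ⟨X, hXtop, hNX, hθX⟩ : ∃ X : Subgroup G, X ≠ ⊤ ∧ normalizer (V : Set G) ≤ X ∧
      ∀ v ∈ V, v ≠ 1 → θ v ≤ X := by
    by_cases hW1 : W = ⊥
    · exact ⟨_, hS.normalizer_ne_top hD.ne_bot hVtop, le_rfl,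
        fun v hv hv1 => (hWθ v hv hv1).trans (hW1 ▸ bot_le)⟩
    · exact ⟨_, hS.normalizer_ne_top hW1 hWtop, hNW,
        fun v hv hv1 => (hWθ v hv hv1).trans Subgroup.le_normalizer⟩
  have hSX : (S : Subgroup G) ≤ X := hD.le_normalizer.trans hNX
  have hVX : V ≤ X := hD.le.trans hSX
  have hCX : ∀ v ∈ V, v ≠ 1 → centralizer ({v} : Set G) ≤ X := fun v hv hv1 l hl => by
    obtain ⟨T, hT, hVT⟩ := Functor.exists_isSylowIn (p := 2) (hD.le_centralizer hv) hD.isPGroup
    obtain ⟨o, ho, n, hn, rfl⟩ := hD.le_centralizer_oddPart hv hv1 hT hVT hl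
    exact X.mul_mem (hθX v hv hv1 ho) (hNX hn)
  have hSylX : IsSylowIn 2 X (S : Subgroup G) :=
    (Functor.isSylowIn_top_of_sylow S).inter hSX le_top
  have key : ∀ g : G, ∀ v ∈ V, v ≠ 1 → g * v * g⁻¹ ∈ X → g ∈ X := by
    intro g v hv hv1 hg
    obtain ⟨c, hc, hle⟩ := hSylX.exists_cj_le (zpowers_le.2 hg) (IsPGroup.of_card (n := 1) (by
      rw [Nat.card_zpowers, SECount.orderOf_conj_eq, hD.invo hv hv1, pow_one]))
    have h1 := hD.closed (c * g) v hv (by
      have := cj_le_iff.1 hle _ (mem_zpowers _)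
      rwa [show c * g * v * (c * g)⁻¹ = c * (g * v * g⁻¹) * c⁻¹ by group])
    obtain ⟨n, hn, e⟩ := hD.exists_normalizer_conj hv h1
    have h2 : n⁻¹ * (c * g) ∈ X := hCX v hv hv1 (mem_centralizer_singleton_iff.2 (by
      calc n⁻¹ * (c * g) * v = n⁻¹ * (c * g * v * (c * g)⁻¹) * (c * g) := by group
        _ = n⁻¹ * (n * v * n⁻¹) * (c * g) := by rw [e]
        _ = _ := by group))
    have := X.mul_mem (X.inv_mem hc) (X.mul_mem (hNX hn) h2)
    simpa [mul_assoc] using this
  have hinv : ∀ s ∈ (S : Subgroup G), orderOf s = 2 →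
      centralizer ({s} : Set G) ≤ X ∧ ∃ a ∈ V, a ≠ 1 ∧ a * s = s * a := by
    intro s hs hso
    set Vs := V ⊓ centralizer ({s} : Set G) with hVs
    have h3 : 3 ≤ Nat.card Vs := by
      have := (hD.card_le_sq (hD.le_normalizer hs) (SECount.invo_sq hso)).trans' h8
      change 8 ≤ Nat.card Vs ^ 2 at this
      by_contra h
      have := Nat.pow_le_pow_left (show Nat.card Vs ≤ 2 by omega) 2
      omega
    obtain ⟨⟨a, ha⟩, ha1⟩ : ∃ a : Vs, a ≠ 1 :=
      haveI : Nontrivial Vs := Finite.one_lt_card_iff_nontrivial.1 (by omega)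
      exists_ne 1
    have ha1' : a ≠ 1 := fun h => ha1 (Subtype.ext h)
    refine ⟨fun l hl => ?_, a, ha.1, ha1', mem_centralizer_singleton_iff.1 ha.2⟩
    obtain ⟨T, hT, hVT⟩ := Functor.exists_isSylowIn (p := 2) (inf_le_right : Vs ≤ _)
      (hD.isPGroup.to_le inf_le_left)
    obtain ⟨h, -, hh⟩ := (Functor.isSylowIn_top_of_sylow S).exists_cj_le le_top hT.isPGroup
    set A := T ⊓ cj h⁻¹ V with hA
    have hAel : IsElementaryAbelian 2 A := ElemAbelian.mono (ElemAbelian.map hD.elem _) inf_le_right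
    have hcl : ∀ g : G, ∀ x ∈ A, g * x * g⁻¹ ∈ T → g * x * g⁻¹ ∈ A := by
      intro g x hx hgx
      have hx' : h * x * h⁻¹ ∈ V := by
        have := Functor.mem_cj.1 hx.2
        simpa using this
      refine ⟨hgx, Functor.mem_cj.2 ?_⟩
      have := hD.closed (h * g * h⁻¹) _ hx' (by
        have := cj_le_iff.1 hh _ hgx
        rwa [show h * g * h⁻¹ * (h * x * h⁻¹) * (h * g * h⁻¹)⁻¹ = h * (g * x * g⁻¹) * h⁻¹ by group])
      convert this using 1
      group
    have hVsA : a ∈ A := ⟨hVT ha, Functor.mem_cj.2 (by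
      have := hD.closed h a ha.1 (cj_le_iff.1 hh a (hVT ha))
      simpa using this)⟩
    have hhX : h ∈ X := key h a ha.1 ha1' (hSX (cj_le_iff.1 hh a (hVT ha)))
    obtain ⟨o, ho, n, hn, -, rfl⟩ := exists_oddPart_mul_normalizer
      (hS.centralizer_solvable (SECount.invo_ne_one hso)) hT hAel inf_le_left
      (fun g _ x hx hgx => hcl g x hx hgx) hl
    refine X.mul_mem ?_ (key n a ha.1 ha1' ?_)
    · haveI : IsMulCommutative Vs := (ElemAbelian.mono hD.elem inf_le_left).1
      refine (Coprime.le_of_noncyclic (A := Vs) (K := oddPart (centralizer ({s} : Set G))) (L := X)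
        (fun hc => ?_) (inf_le_right.trans (le_normalizer_oddPart _)) ?_ ?_) ho
      · obtain ⟨z, hz⟩ := hc.exists_generator
        have h1 : Nat.card Vs ≤ orderOf z := by
          rw [← Nat.card_zpowers, (eq_top_iff' _).2 hz, card_top]
        have h2 : orderOf z ≤ 2 := Nat.le_of_dvd two_pos (orderOf_dvd_of_pow_eq_one
          (Subtype.ext (hD.sq z.2.1)))
        omega
      · obtain ⟨k, hk⟩ := IsPGroup.iff_card.1 (hD.isPGroup.to_le (inf_le_left : Vs ≤ V))
        rw [hk]
        exact (oddPart_coprime _).symm.pow_left k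
      · exact fun x hx hx1 => inf_le_right.trans (hCX x hx.1 hx1)
    · have h1 : n * a * n⁻¹ ∈ A := (mem_normalizer_iff.1 hn a).1 hVsA
      have h2 := hSX (cj_le_iff.1 hh _ h1.1)
      have := X.mul_mem (X.mul_mem (X.inv_mem hhX) h2) hhX
      simpa [mul_assoc] using this
  refine ⟨S, V, X, hD, hNX, hXtop, ?_, fun x hx => ?_⟩
  · exact even_iff_two_dvd.2 ((hD.invo hD.exists_ne_one.choose_spec.1
      hD.exists_ne_one.choose_spec.2) ▸
        X.orderOf_dvd_natCard (hVX hD.exists_ne_one.choose_spec.1))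
  · rw [← Nat.not_even_iff_odd]
    intro hev
    obtain ⟨⟨s, hs⟩, hso⟩ := exists_prime_orderOf_dvd_card'
      (G := ↥(X ⊓ X.map (MulAut.conj x).toMonoidHom)) 2 (even_iff_two_dvd.1 hev)
    rw [orderOf_mk] at hso
    -- `s' = x⁻¹ s x` commutes with a conjugate of an element of `V`
    have hs' : x⁻¹ * s * x ∈ X := SECount.mem_map_conj.1 hs.2
    have ho' : orderOf (x⁻¹ * s * x) = 2 := by
      have := SECount.orderOf_conj_eq x⁻¹ s
      rw [inv_inv] at this
      rw [this, hso]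
    obtain ⟨c, hc, hcl⟩ := hSylX.exists_cj_le (zpowers_le.2 hs') (IsPGroup.of_card (n := 1) (by
      rw [Nat.card_zpowers, ho', pow_one]))
    obtain ⟨-, a, haV, ha1, hac⟩ := hinv _ (cj_le_iff.1 hcl _ (mem_zpowers _)) (by
      rw [SECount.orderOf_conj_eq, ho'])
    obtain ⟨d, hd, hdl⟩ := hSylX.exists_cj_le (zpowers_le.2 hs.1) (IsPGroup.of_card (n := 1) (by
      rw [Nat.card_zpowers, hso, pow_one]))
    obtain ⟨hCd, -⟩ := hinv _ (cj_le_iff.1 hdl _ (mem_zpowers _)) (by
      rw [SECount.orderOf_conj_eq, hso])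
    have h1 : (d * x * c⁻¹) * a * (d * x * c⁻¹)⁻¹ ∈ X := hCd (mem_centralizer_singleton_iff.2 (by
      have e : d * s * d⁻¹ =
          (d * x * c⁻¹) * (c * (x⁻¹ * s * x) * c⁻¹) * (d * x * c⁻¹)⁻¹ := by group
      rw [e]
      calc _ = (d * x * c⁻¹) * (a * (c * (x⁻¹ * s * x) * c⁻¹)) * (d * x * c⁻¹)⁻¹ := by group
        _ = (d * x * c⁻¹) * (c * (x⁻¹ * s * x) * c⁻¹ * a) * (d * x * c⁻¹)⁻¹ := by rw [hac]
        _ = _ := by group))
    have h2 := key _ a haV ha1 h1
    exact hx (by simpa [mul_assoc] using X.mul_mem (X.mul_mem (X.inv_mem hd) h2) hc)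

end Cfsg.Agent.Lib.NilpotentPPrime
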