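import Mathlib
import Cfsg.Agent.Lib.NilpotentPPrime.Embedded

/-!
# Local facts about the strongly embedded subgroup

All involutions are conjugate, those of `S` form `V#`, `|V| = p + 1`, a solvable subgroup meeting
`X` in a four-group lies in `X`, and so do centralisers of nontrivial `{2, p}'`-elements of `X`.
-/

set_option autoImplicit false
set_option linter.style.haveILetI false

namespace Cfsg.Agent.Lib.NilpotentPPrime

open Subgroup Cfsg
open Cfsg.Agent.Lib.Functor (IsSylowIn cj cj_le_iff cj_cj)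

universe u

variable {G : Type u} [Group G] [Finite G] {p : ℕ}

/-- `b = 1` if `2 ^ n = p ^ b + 1` with `p` odd and `n ≥ 2`. -/
theorem eq_of_two_pow_eq_pow_succ {p b n : ℕ} (hp : Odd p) (hn : 2 ≤ n) (h : 2 ^ n = p ^ b + 1) :
    2 ^ n = p + 1 := by
  rcases Nat.even_or_odd b with ⟨j, rfl⟩ | ⟨j, rfl⟩
  · exfalso
    obtain ⟨m, hm⟩ := hp.pow (n := j)
    have h4 : 4 ∣ 2 ^ n := (show (4 : ℕ) = 2 ^ 2 by norm_num) ▸ pow_dvd_pow 2 hn
    rw [h, ← two_mul, pow_mul', hm, show (2 * m + 1) ^ 2 + 1 = 4 * (m * m + m) + 2 by ring] at h4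
    omega
  · have hdiv : p + 1 ∣ p ^ (2 * j + 1) + 1 := by
      have := Odd.nat_add_dvd_pow_add_pow p 1 (⟨j, rfl⟩ : Odd (2 * j + 1))
      simpa using this
    rw [← h] at hdiv
    obtain ⟨m, hmn, hm⟩ := (Nat.dvd_prime_pow Nat.prime_two).1 hdiv
    suffices hmn' : m = n by rw [hm, hmn']
    by_contra hne
    have key : ∀ i : ℕ, ∃ k : ℤ,
        ((2 : ℤ) ^ m - 1) ^ (2 * i + 1) + 1 = (2 * i + 1) * 2 ^ m + (2 ^ m) ^ 2 * k := by
      intro i
      induction i with
      | zero => exact ⟨0, by ring⟩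
      | succ i ih =>
        obtain ⟨k, hk⟩ := ih
        refine ⟨((2 : ℤ) ^ m - 1) ^ 2 * k + (2 * i + 1) * (2 ^ m - 2) - 1, ?_⟩
        have e : ((2 : ℤ) ^ m - 1) ^ (2 * (i + 1) + 1) + 1 =
            ((2 : ℤ) ^ m - 1) ^ 2 * (((2 : ℤ) ^ m - 1) ^ (2 * i + 1) + 1)
              - (((2 : ℤ) ^ m - 1) ^ 2 - 1) := by ring
        rw [e, hk]
        push_cast
        ring
    obtain ⟨k, hk⟩ := key j
    have hp' : ((2 : ℤ) ^ m - 1) = p := by
      have : ((p + 1 : ℕ) : ℤ) = ((2 ^ m : ℕ) : ℤ) := by rw [hm]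
      push_cast at this
      linarith
    have h' : (2 : ℤ) ^ n = p ^ (2 * j + 1) + 1 := by exact_mod_cast h
    rw [hp', ← h'] at hk
    obtain ⟨d, hd⟩ : ∃ d, n = m + (d + 1) := ⟨n - m - 1, by omega⟩
    obtain ⟨c, hc⟩ : ∃ c, m = c + 1 := ⟨m - 1, by
      rcases m with _ | m
      · simp at hm
        subst hm
        simp at h
        have : 2 ^ 2 ≤ 2 ^ n := Nat.pow_le_pow_right two_pos hn
        omega
      · omega⟩
    have h2 : (2 : ℤ) ^ m * (2 ^ (d + 1)) = 2 ^ m * ((2 * j + 1) + 2 ^ m * k) := by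
      rw [← pow_add, ← hd, hk]; ring
    have h3 := mul_left_cancel₀ (pow_ne_zero m (two_ne_zero' ℤ)) h2
    rw [hc, pow_succ, pow_succ] at h3
    have h4 : 2 * ((2 : ℤ) ^ d) = 2 * (j : ℤ) + 1 + 2 * ((2 : ℤ) ^ c * k) := by linarith
    omega

namespace Emb

variable {S : Sylow 2 G} {V X : Subgroup G} (hE : Emb p S V X)
include hE

theorem setting : Setting p G := hE.data.setting

theorem sylow_le : (S : Subgroup G) ≤ X := hE.data.le_normalizer.trans hE.normalizer_le

theorem le : V ≤ X := hE.data.le.trans hE.sylow_le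

theorem ne_top : X ≠ ⊤ := hE.embedded.1

theorem solvable : Group.IsSolvable X := hE.setting.proper X hE.ne_top

theorem isSylowIn : IsSylowIn 2 X (S : Subgroup G) :=
  have : Fact (Nat.Prime 2) := ⟨Nat.prime_two⟩
  (Functor.isSylowIn_top_of_sylow S).inter hE.sylow_le le_top

theorem centralizer_le {s : G} (hs : orderOf s = 2) (hsX : s ∈ X) :
    centralizer ({s} : Set G) ≤ X :=
  SECount.centralizer_le hE.embedded hs hsX

theorem mem_of_conj_mem {s g : G} (hs : orderOf s = 2) (hsX : s ∈ X) (h : g * s * g⁻¹ ∈ X) :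
    g ∈ X :=
  SECount.mem_of_conj_mem hE.embedded hs hsX h

theorem mem_of_invo {s : G} (hs : s ∈ (S : Subgroup G)) (h2 : orderOf s = 2) : s ∈ V := by
  obtain ⟨v, hv, hv1⟩ := hE.data.exists_ne_one
  obtain ⟨g, rfl⟩ := isConj_iff.1 (SECount.isConj_invo hE.embedded (hE.data.invo hv hv1) h2)
  exact hE.data.closed g v hv hs

theorem exists_conj_of_invo {s : G} (hs : s ∈ X) (h2 : orderOf s = 2) :
    ∃ c ∈ X, c * s * c⁻¹ ∈ V := by
  have : Fact (Nat.Prime 2) := ⟨Nat.prime_two⟩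
  obtain ⟨c, hc, hle⟩ := hE.isSylowIn.exists_cj_le (zpowers_le.2 hs) (IsPGroup.of_card (n := 1)
    (by rw [Nat.card_zpowers, h2, pow_one]))
  exact ⟨c, hc, hE.mem_of_invo (cj_le_iff.1 hle _ (mem_zpowers s))
    ((SECount.orderOf_conj_eq c s).trans h2)⟩

theorem exists_normalizer_conj {v w : G} (hv : v ∈ V) (hv1 : v ≠ 1) (hw : w ∈ V) (hw1 : w ≠ 1) :
    ∃ n ∈ normalizer (V : Set G), n * v * n⁻¹ = w := by
  obtain ⟨g, rfl⟩ := isConj_iff.1 (SECount.isConj_invo hE.embedded (hE.data.invo hv hv1)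
    (hE.data.invo hw hw1))
  exact hE.data.exists_normalizer_conj hv hw

/-- `|V| = p + 1`. -/
theorem card_eq : Nat.card V = p + 1 := by
  have : Fact (Nat.Prime 2) := ⟨Nat.prime_two⟩
  obtain ⟨v, hv, hv1⟩ := hE.data.exists_ne_one
  have h8 := hE.data.eight_le
  obtain ⟨n, hn⟩ := IsPGroup.iff_card.1 hE.data.isPGroup
  set i := ((centralizer ({v} : Set G)).subgroupOf (normalizer (V : Set G))).index with hi
  have hic : i + 1 = Nat.card V := by
    rw [hi, hE.data.index_centralizer_normalizer, ← Finite.card_option]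
    refine Nat.card_eq_of_bijective (fun o => o.elim (1 : V) fun w => ⟨w.1, ?_⟩) ⟨?_, ?_⟩
    · obtain ⟨m, hm, e⟩ := w.2
      exact e ▸ (mem_normalizer_iff.1 hm v).1 hv
    · have hne : ∀ a : {w : G // ∃ n ∈ normalizer (V : Set G), n * v * n⁻¹ = w}, a.1 ≠ 1 := by
        rintro ⟨a, m, hm, e⟩ (ha : a = 1)
        exact hv1 (conj_eq_one_iff.1 (e.trans ha))
      rintro (_ | a) (_ | b) h
      · rfl
      · exact absurd (congrArg Subtype.val h).symm (hne b)
      · exact absurd (congrArg Subtype.val h) (hne a)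
      · exact congrArg some (Subtype.ext (congrArg (fun x : V => (x : G)) h))
    · intro w
      by_cases hw : (w : G) = 1
      · exact ⟨none, Subtype.ext hw.symm⟩
      · exact ⟨some ⟨w, hE.exists_normalizer_conj hv hv1 w.2 hw⟩, rfl⟩
  have hi0 : i ≠ 0 := index_ne_zero_of_finite
  have hn3 : 3 ≤ n := by
    by_contra h
    have : (2 : ℕ) ^ n ≤ 2 ^ 2 := Nat.pow_le_pow_right two_pos (by omega)
    omega
  have hodd : ¬ 2 ∣ i := by
    intro h
    have h2 : 2 ∣ 2 ^ n := dvd_pow_self 2 (by omega)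
    omega
  have hpb : ∀ q : ℕ, q.Prime → q ∣ i → q = p := fun q hq hd => by
    haveI := Fact.mk hq
    by_contra hne
    exact hE.data.not_dvd_index hv (by rintro rfl; exact hodd hd) hne hd
  obtain ⟨b, hb⟩ : ∃ b, i = p ^ b :=
    ⟨_, Nat.eq_prime_pow_of_unique_prime_dvd hi0 fun {q} hq hd => hpb q hq hd⟩
  rw [hn]
  exact eq_of_two_pow_eq_pow_succ (hE.setting.prime.odd_of_ne_two hE.setting.p_ne_two)
    (by omega) (hn ▸ hb ▸ hic.symm)

/-- A `p`-element of `N(V)` fixing a nontrivial element of `V` centralises `V`. -/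
theorem commute_of_fixes {x v : G} {k : ℕ} (hx : x ∈ normalizer (V : Set G))
    (hxp : orderOf x = p ^ k) (hv : v ∈ V) (hv1 : v ≠ 1) (hxv : Commute x v) {w : G} (hw : w ∈ V) :
    Commute x w := by
  haveI := Fact.mk hE.setting.prime
  letI : MulAction (zpowers x) V :=
    { smul := fun a u => ⟨(a : G) * u * (a : G)⁻¹,
        (mem_normalizer_iff.1 (zpowers_le.2 hx a.2) _).1 u.2⟩
      one_smul := fun u => Subtype.ext (by
        show ((1 : zpowers x) : G) * u * ((1 : zpowers x) : G)⁻¹ = u; simp)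
      mul_smul := fun a b u => Subtype.ext (by
        show ((a * b : zpowers x) : G) * u * ((a * b : zpowers x) : G)⁻¹ =
          a * ((b : G) * u * (b : G)⁻¹) * (a : G)⁻¹
        rw [coe_mul]; group) }
  have hP : IsPGroup p (zpowers x) := IsPGroup.of_card (n := k) (by rw [Nat.card_zpowers, hxp])
  have h1 := hP.card_modEq_card_fixedPoints V
  have hfix : ∀ u : V, u ∈ MulAction.fixedPoints (zpowers x) V ↔ (u : G) ∈ centralizer ({x} : Set G) := by
    intro u
    rw [mem_centralizer_singleton_iff]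
    constructor
    · intro h
      have h2 : x * u * x⁻¹ = u := congrArg Subtype.val (h ⟨x, mem_zpowers x⟩)
      calc (u : G) * x = x * u * x⁻¹ * x := by rw [h2]
        _ = x * u := by group
    · rintro h ⟨a, ha⟩
      obtain ⟨j, rfl⟩ := ha
      refine Subtype.ext ?_
      show x ^ j * (u : G) * (x ^ j)⁻¹ = u
      rw [((show Commute (u : G) x from h).zpow_right j).symm.eq, mul_inv_cancel_right]
  have hc : Nat.card (MulAction.fixedPoints (zpowers x) V) =
      Nat.card ↥(V ⊓ centralizer ({x} : Set G)) := by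
    refine Nat.card_eq_of_bijective (fun u => ⟨((u : V) : G), (u : V).2, (hfix _).1 u.2⟩) ⟨?_, ?_⟩
    · exact fun a b h => Subtype.ext (Subtype.ext
        (congrArg (fun z : ↥(V ⊓ centralizer ({x} : Set G)) => (z : G)) h))
    · exact fun u => ⟨⟨⟨u, u.2.1⟩, (hfix _).2 u.2.2⟩, rfl⟩
  rw [hc, hE.card_eq] at h1
  set F := V ⊓ centralizer ({x} : Set G) with hF
  have hF2 : 1 < Nat.card F := F.one_lt_card_iff_ne_bot.2 fun h => hv1 (mem_bot.1
    (h ▸ (⟨hv, mem_centralizer_singleton_iff.2 hxv.eq.symm⟩ : v ∈ F)))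
  have hFle : Nat.card F ≤ p + 1 := hE.card_eq ▸ card_le_of_le inf_le_left
  have hFV : Nat.card F = p + 1 := by
    have h2 : Nat.card F ≡ 1 [MOD p] := h1.symm.trans (by simp [Nat.ModEq])
    have h3 := (Nat.modEq_iff_dvd' hF2.le).1 h2.symm
    have h4 := Nat.le_of_dvd (by omega) h3
    omega
  have : F = V := eq_of_le_of_card_ge inf_le_left (by rw [hFV, hE.card_eq])
  exact (mem_centralizer_singleton_iff.1 (this.symm ▸ hw : w ∈ F).2).symm

/-- **A solvable subgroup meeting `X` in a four-group lies in `X`.** -/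
theorem le_of_four {L E : Subgroup G} (hL : Group.IsSolvable L) (hEe : IsElementaryAbelian 2 E)
    (hE3 : 3 ≤ Nat.card E) (hEL : E ≤ L) (hEX : E ≤ X) : L ≤ X := by
  have : Fact (Nat.Prime 2) := ⟨Nat.prime_two⟩
  haveI := hL
  haveI : Nontrivial E := Finite.one_lt_card_iff_nontrivial.1 (by omega)
  obtain ⟨⟨e, he⟩, he1⟩ := exists_ne (1 : E)
  have he1' : e ≠ 1 := fun h => he1 (Subtype.ext h)
  have he2 : ∀ a ∈ E, a ≠ 1 → orderOf a = 2 := fun a ha h => orderOf_eq_prime (hEe.2 a ha) h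
  have hOX : oddPart L ≤ X := by
    haveI : IsMulCommutative E := hEe.1
    refine Coprime.le_of_noncyclic (A := E) (fun hc => ?_) (hEL.trans (le_normalizer_oddPart L)) ?_
      fun a ha ha1 => inf_le_right.trans (hE.centralizer_le (he2 a ha ha1) (hEX ha))
    · obtain ⟨z, hz⟩ := hc.exists_generator
      have h1 : Nat.card E ≤ orderOf z := by
        rw [← Nat.card_zpowers, (eq_top_iff' _).2 hz, card_top]
      have h2 : orderOf z ≤ 2 := Nat.le_of_dvd two_pos (orderOf_dvd_of_pow_eq_one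
        (Subtype.ext (hEe.2 z z.2)))
      omega
    · obtain ⟨k, hk⟩ := IsPGroup.iff_card.1 (ElemAbelian.isPGroup hEe)
      rw [hk]
      exact (oddPart_coprime L).symm.pow_left k
  obtain ⟨U, hU, hEU⟩ := Functor.exists_isSylowIn (p := 2) (le_inf hEL hEX)
    (ElemAbelian.isPGroup hEe)
  obtain ⟨T, hT, hUT⟩ := Functor.exists_isSylowIn (p := 2) (hU.le.trans inf_le_left) hU.isPGroup
  have hTU : U = T := by
    by_contra hne
    refine (Functor.lt_inf_normalizer hT.isPGroup hUT hne).ne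
      (hU.eq_of_le (le_inf hUT le_normalizer) (fun x hx => ⟨hT.le hx.1, ?_⟩)
        (hT.isPGroup.to_le inf_le_left))
    exact hE.mem_of_conj_mem (he2 e he he1') (hEX he)
      (hU.le ((mem_normalizer_iff.1 hx.2 e).1 (hEU he))).2
  subst hTU
  obtain ⟨U', hU'⟩ := hT.exists_sylow
  set O := pPrimeCore 2 L with hO
  set π := QuotientGroup.mk' O with hπ
  have hπs : Function.Surjective π := QuotientGroup.mk'_surjective O
  set Q := pCore 2 (L ⧸ O) with hQ
  haveI hMn : (Q.comap π).Normal := Subgroup.Normal.comap inferInstance π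
  have hMX : ∀ m ∈ Q.comap π, (m : G) ∈ X := by
    intro m hm
    have h1 : m ∈ ((U' : Subgroup L).map π).comap π :=
      comap_mono (PSolvable.pCore_le_sylow (U'.mapSurjective hπs)) hm
    rw [comap_map_eq, hπ, QuotientGroup.ker_mk', hU'] at h1
    obtain ⟨u, hu, o, ho, rfl⟩ := mem_sup_of_normal_right.1 h1
    exact X.mul_mem (hU.le (mem_subgroupOf.1 hu)).2 (hOX (mem_map_of_mem _ ho))
  have hQ1 : Q ≠ ⊥ := by
    intro hbot
    have h1 := SolvableCore.centralizer_pCore_le (p := 2) (G := L ⧸ O) inferInstance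
      PSolvable.pPrimeCore_quotient_eq_bot
    rw [← hQ, hbot] at h1
    have hOtop : O = ⊤ := eq_top_iff.2 fun x _ => by
      rw [← QuotientGroup.eq_one_iff]
      exact mem_bot.1 (h1 (mem_centralizer_iff.2 fun y hy => by
        rw [SetLike.mem_coe, mem_bot] at hy
        rw [hy, one_mul, mul_one]))
    have hcop := PSolvable.pPrimeCore_coprime (p := 2) (G := L)
    rw [← hO, hOtop, card_top] at hcop
    exact Nat.prime_two.ne_one (Nat.eq_one_of_dvd_coprimes hcop
      ((he2 e he he1') ▸ L.orderOf_dvd_natCard (hEL he)) dvd_rfl)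
  have hQ2 : 2 ∣ Nat.card Q := (PSolvable.pCore_isPGroup (p := 2)).card_eq_or_dvd.resolve_left
    fun h => hQ1 (eq_bot_of_card_eq _ h)
  obtain ⟨s, hs⟩ := exists_prime_orderOf_dvd_card' (G := ↥(Q.comap π)) 2 (by
    rw [PSolvable.card_comap_mk']
    exact hQ2.mul_left _)
  have hso : orderOf ((s : L) : G) = 2 := by rw [orderOf_coe, orderOf_coe, hs]
  intro l hl
  exact hE.mem_of_conj_mem hso (hMX s s.2) (hMX _ (hMn.conj_mem s s.2 ⟨l, hl⟩))

/-- A nontrivial element of `X` of order prime to `2p` centralises an `X`-conjugate of `V`. -/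
theorem exists_cj_le_centralizer {k : G} (hk : k ∈ X) (hk2 : (orderOf k).Coprime 2)
    (hkp : (orderOf k).Coprime p) : ∃ c ∈ X, cj c V ≤ centralizer ({k} : Set G) := by
  have : Fact (Nat.Prime 2) := ⟨Nat.prime_two⟩
  haveI := hE.solvable
  have hp := hE.setting.prime
  have hG0 : Nat.card X = ordCompl[p] (Nat.card X) * ordProj[p] (Nat.card X) := by
    rw [mul_comm]; exact (Nat.ordProj_mul_ordCompl_eq_self _ _).symm
  have hcm := (Nat.coprime_ordCompl hp (Nat.card_pos (α := X)).ne').symm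
  obtain ⟨U, hUc, hkU⟩ := Hall.exists_card_eq_ge hG0 (hcm.pow_right _)
    (K := zpowers (⟨k, hk⟩ : X)) (by rw [Nat.card_zpowers, orderOf_mk]; exact hkp.pow_right _)
  set U' := U.map X.subtype with hU'
  have hU'c : Nat.card U' = ordCompl[p] (Nat.card X) := by
    rw [hU', card_map_of_injective X.subtype_injective, hUc]
  obtain ⟨P, hP⟩ : ∃ P : Subgroup G, IsSylowIn 2 U' P := by
    obtain ⟨P, hP, -⟩ := Functor.exists_isSylowIn (p := 2) (bot_le : ⊥ ≤ U') IsPGroup.of_bot
    exact ⟨P, hP⟩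
  have hPX : P ≤ X := hP.le.trans (map_subtype_le _)
  obtain ⟨c, hc, hle⟩ := hE.isSylowIn.exists_cj_le hPX hP.isPGroup
  have hSc : Nat.card (S : Subgroup G) ≤ Nat.card P := by
    obtain ⟨P', hP'⟩ := hP.exists_sylow
    obtain ⟨j, hj⟩ := IsPGroup.iff_card.1 S.2
    have hdvd : 2 ^ j ∣ Nat.card U' := by
      have h1 : 2 ^ j ∣ ordCompl[p] (Nat.card X) * ordProj[p] (Nat.card X) :=
        hG0 ▸ hj ▸ card_dvd_of_le hE.sylow_le
      rw [hU'c]
      exact ((hE.setting.two_coprime.pow_left j).pow_right _).dvd_of_dvd_mul_right h1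
    have h2 := P'.pow_dvd_card_of_pow_dvd_card hdvd
    rw [hP', Nat.card_congr (subgroupOfEquivOfLe hP.le).toEquiv] at h2
    rw [hj]
    exact Nat.le_of_dvd Nat.card_pos h2
  have heq : cj c P = (S : Subgroup G) :=
    eq_of_le_of_card_ge hle (by rw [Functor.card_cj]; exact hSc)
  refine ⟨c⁻¹, X.inv_mem hc, cj_le_iff.2 fun v hv => ?_⟩
  have hvP : c⁻¹ * v * c⁻¹⁻¹ ∈ P := by
    have := heq ▸ hE.data.le hv
    rw [Functor.mem_cj] at this
    simpa using this
  rw [mem_centralizer_singleton_iff]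
  refine (hE.setting.hyp.commute (H := U') (by rw [hU'c]; exact hcm) (hP.le hvP)
    (mem_map.2 ⟨⟨k, hk⟩, hkU (mem_zpowers _), rfl⟩) ?_).eq
  rw [SECount.orderOf_conj_eq]
  exact Nat.Coprime.coprime_dvd_left (orderOf_dvd_of_pow_eq_one (hE.data.sq hv)) hk2.symm

theorem centralizer_le_of_coprime {k : G} (hk : k ∈ X) (hk1 : k ≠ 1) (hk2 : (orderOf k).Coprime 2)
    (hkp : (orderOf k).Coprime p) : centralizer ({k} : Set G) ≤ X := by
  obtain ⟨c, hc, hle⟩ := hE.exists_cj_le_centralizer hk hk2 hkp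
  refine hE.le_of_four (hE.setting.centralizer_solvable hk1) (ElemAbelian.map hE.data.elem _)
    ?_ hle (cj_le_iff.2 fun v hv => X.mul_mem (X.mul_mem hc (hE.le hv)) (X.inv_mem hc))
  rw [Functor.card_cj]
  linarith [hE.data.eight_le]

/-- `X` controls fusion of its nontrivial `{2, p}'`-elements. -/
theorem mem_of_conj_coprime {k g : G} (hk : k ∈ X) (hk1 : k ≠ 1) (hk2 : (orderOf k).Coprime 2)
    (hkp : (orderOf k).Coprime p) (hg : g * k * g⁻¹ ∈ X) : g ∈ X := by
  obtain ⟨c, hc, hle⟩ := hE.exists_cj_le_centralizer hk hk2 hkp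
  obtain ⟨v, hv, hv1⟩ := hE.data.exists_ne_one
  have ho : orderOf (c * v * c⁻¹) = 2 := (SECount.orderOf_conj_eq c v).trans (hE.data.invo hv hv1)
  have hle' : centralizer ({g * k * g⁻¹} : Set G) ≤ X :=
    hE.centralizer_le_of_coprime hg (fun h => hk1 (conj_eq_one_iff.1 h))
      (by rwa [SECount.orderOf_conj_eq]) (by rwa [SECount.orderOf_conj_eq])
  refine hE.mem_of_conj_mem ho (X.mul_mem (X.mul_mem hc (hE.le hv)) (X.inv_mem hc)) (hle' ?_)
  rw [← cj_centralizer]
  exact Functor.conj_mem_cj (cj_le_iff.1 hle v hv)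

/-- A `q`-group meeting `X` nontrivially lies in `X`, for `q ≠ 2, p`. -/
theorem le_of_qGroup {q : ℕ} [Fact q.Prime] (hq2 : q ≠ 2) (hqp : q ≠ p) {Q : Subgroup G}
    (hQ : IsPGroup q Q) {k : G} (hk : k ∈ Q) (hkX : k ∈ X) (hk1 : k ≠ 1) : Q ≤ X := by
  have hco : ∀ x ∈ Q, (orderOf x).Coprime 2 ∧ (orderOf x).Coprime p := fun x hx => by
    obtain ⟨j, hj⟩ := IsPGroup.iff_orderOf.1 hQ ⟨x, hx⟩
    rw [orderOf_mk] at hj
    rw [hj]
    exact ⟨((Nat.coprime_primes Fact.out Nat.prime_two).2 hq2).pow_left j,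
      ((Nat.coprime_primes Fact.out hE.setting.prime).2 hqp).pow_left j⟩
  obtain ⟨z, hz, hz1, -, hzc⟩ := PReduced.exists_order_p_central (p := q) hQ le_rfl le_normalizer
    (fun h => hk1 (mem_bot.1 (h ▸ hk : k ∈ (⊥ : Subgroup G))))
  have hzX : z ∈ X := hE.centralizer_le_of_coprime hkX hk1 (hco k hk).1 (hco k hk).2
    (mem_centralizer_singleton_iff.2 (mem_centralizer_iff.1 hzc k hk).symm)
  exact fun x hx => hE.centralizer_le_of_coprime hzX hz1 (hco z hz).1 (hco z hz).2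
    (mem_centralizer_singleton_iff.2 (mem_centralizer_iff.1 hzc x hx))

/-- `X` is the normaliser of its nontrivial normal subgroups. -/
theorem normalizer_le_of_le {N : Subgroup G} (hN : N ≠ ⊥) (hNX : N ≤ X)
    (hn : X ≤ normalizer (N : Set G)) : normalizer (N : Set G) ≤ X := by
  refine hE.le_of_four (hE.setting.proper _ (hE.setting.normalizer_ne_top hN fun h => hE.ne_top
    (eq_top_iff.2 (h ▸ hNX)))) hE.data.elem ?_ (hE.le.trans hn) hE.le
  linarith [hE.data.eight_le]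

end Emb

end Cfsg.Agent.Lib.NilpotentPPrime
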