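import Mathlib
import Cfsg.Agent.Lib.NilpotentPPrime.Local

/-!
# The case `X = N(V)`

The conjugates of `V` form a set on which exactly `p` involutions interchange two given points.
Counting pairs of involutions gives a `p`-element without fixed points, so a Sylow `p`-subgroup `P`
of `X` is not one of `G`; then the fixed-point-free elements of `N(P)` all lie in cosets `wP` of
involutions, and a `p`-element outside `P` cannot.
-/

set_option autoImplicit false
set_option linter.style.haveILetI false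

namespace Cfsg.Agent.Lib.NilpotentPPrime

open Subgroup Cfsg
open Cfsg.Agent.Lib.Functor (IsSylowIn cj cj_le_iff cj_cj)

universe u

variable {G : Type u} [Group G] [Finite G] {p : ℕ}

/-- An element of order prime to `2p` inverted by an involution is trivial. -/
theorem Setting.eq_one_of_inverted (hS : Setting p G) {y t : G} (ht : orderOf t = 2)
    (hy2 : (orderOf y).Coprime 2) (hyp : (orderOf y).Coprime p) (h : t * y * t⁻¹ = y⁻¹) : y = 1 := by
  have hn : t ∈ normalizer (zpowers y : Set G) := by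
    refine Functor.mem_normalizer_of_cj_le (cj_le_iff.2 fun b hb => ?_)
    obtain ⟨j, rfl⟩ := hb
    show t * y ^ j * t⁻¹ ∈ zpowers y
    rw [← conj_zpow, h]
    exact Subgroup.zpow_mem _ (inv_mem (mem_zpowers y)) j
  have hc : Commute t y := by
    refine hS.hyp.commute (H := zpowers t ⊔ zpowers y) ?_ (mem_sup_left (mem_zpowers t))
      (mem_sup_right (mem_zpowers y)) (by rw [ht]; exact hy2.symm)
    refine Nat.Coprime.coprime_dvd_left (Hall.card_sup_dvd_of_le_normalizer (zpowers_le.2 hn)) ?_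
    rw [Nat.card_zpowers, Nat.card_zpowers, ht]
    exact hS.two_coprime.mul_left hyp
  rw [hc.eq, mul_inv_cancel_right] at h
  rw [← orderOf_eq_one_iff]
  exact Nat.eq_one_of_dvd_coprimes hy2 dvd_rfl
    (orderOf_dvd_of_pow_eq_one (by rw [pow_two]; exact mul_eq_one_iff_eq_inv.2 h))

/-- A point: a conjugate of `V`. -/
def IsPt (V U : Subgroup G) : Prop := ∃ g : G, U = cj g V

namespace Emb

variable {S : Sylow 2 G} {V X : Subgroup G} (hE : Emb p S V X) (hXV : X ≤ normalizer (V : Set G))
include hE hXV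

theorem eq_normalizer : X = normalizer (V : Set G) := le_antisymm hXV hE.normalizer_le

theorem mem_V_of_invo {t : G} (ht : t ∈ X) (h2 : orderOf t = 2) : t ∈ V := by
  obtain ⟨c, hc, hcv⟩ := hE.exists_conj_of_invo ht h2
  exact ((mem_normalizer_iff.1 (hXV hc)) t).2 hcv

theorem pt_invo {U : Subgroup G} (hU : IsPt V U) {t : G} (ht : t ∈ U) (h1 : t ≠ 1) :
    orderOf t = 2 := by
  obtain ⟨a, rfl⟩ := hU
  obtain ⟨v, hv, rfl⟩ := ht
  exact (SECount.orderOf_conj_eq a v).trans (hE.data.invo hv fun h => h1 (by simp [h]))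

theorem invo_mem_pt {U : Subgroup G} (hU : IsPt V U) {t : G}
    (ht : t ∈ normalizer (U : Set G)) (h2 : orderOf t = 2) : t ∈ U := by
  obtain ⟨a, rfl⟩ := hU
  rw [← Functor.cj_normalizer, Functor.mem_cj, ← hE.eq_normalizer hXV] at ht
  refine Functor.mem_cj.2 (hE.mem_V_of_invo hXV ht ?_)
  have := SECount.orderOf_conj_eq a⁻¹ t
  rw [inv_inv] at this
  rw [this, h2]

theorem pt_eq {U U' : Subgroup G} (hU : IsPt V U) (hU' : IsPt V U') {t : G} (h : t ∈ U)
    (h' : t ∈ U') (h1 : t ≠ 1) : U = U' := by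
  obtain ⟨a, rfl⟩ := hU
  obtain ⟨b, rfl⟩ := hU'
  obtain ⟨v, hv, rfl⟩ := h
  have hv1 : v ≠ 1 := fun e => h1 (by simp [e])
  have hg : b⁻¹ * a ∈ X := by
    refine hE.mem_of_conj_mem (hE.data.invo hv hv1) (hE.le hv) (hE.le ?_)
    have h2 : b⁻¹ * (a * v * a⁻¹) * b ∈ V := Functor.mem_cj.1 h'
    convert h2 using 1
    group
  have := congrArg (cj b) (Functor.cj_eq_self_of_mem (hXV hg))
  rwa [cj_cj, mul_inv_cancel_left] at this

theorem exists_pt {t : G} (ht : orderOf t = 2) : ∃ U, IsPt V U ∧ t ∈ U := by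
  obtain ⟨v, hv, hv1⟩ := hE.data.exists_ne_one
  obtain ⟨g, rfl⟩ := isConj_iff.1 (SECount.isConj_invo hE.embedded (hE.data.invo hv hv1) ht)
  exact ⟨cj g V, ⟨g, rfl⟩, Functor.conj_mem_cj hv⟩

/-- Nothing nontrivial centralises two points. -/
theorem eq_one_of_centralizes {U U' : Subgroup G} (hU : IsPt V U) (hU' : IsPt V U') (hne : U ≠ U')
    {z : G} (h : U ≤ centralizer ({z} : Set G)) (h' : U' ≤ centralizer ({z} : Set G)) : z = 1 := by
  by_contra hz
  obtain ⟨a, rfl⟩ := hU
  obtain ⟨b, rfl⟩ := hU'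
  obtain ⟨v, hv, hv1⟩ := hE.data.exists_ne_one
  have hz' : a⁻¹ * z * a⁻¹⁻¹ ≠ 1 := fun e => hz (conj_eq_one_iff.1 e)
  have hle : centralizer ({a⁻¹ * z * a⁻¹⁻¹} : Set G) ≤ X := by
    refine hE.le_of_four (hE.setting.centralizer_solvable hz') hE.data.elem
      (by linarith [hE.data.eight_le]) ?_ hE.le
    rw [← cj_centralizer]
    intro w hw
    refine Functor.mem_cj.2 ?_
    simpa using h (Functor.conj_mem_cj (g := a) hw)
  have hb : (a⁻¹ * b) * v * (a⁻¹ * b)⁻¹ ∈ X := hle (by
    rw [← cj_centralizer, Functor.mem_cj]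
    have := h' (Functor.conj_mem_cj (g := b) hv)
    convert this using 1
    group)
  have hg := hE.mem_of_conj_mem (hE.data.invo hv hv1) (hE.le hv) hb
  have := congrArg (cj a) (Functor.cj_eq_self_of_mem (hXV hg))
  rw [cj_cj, mul_inv_cancel_left] at this
  exact hne this.symm

theorem commute_of_coprime_pt {U : Subgroup G} (hU : IsPt V U) {x : G}
    (h2 : (orderOf x).Coprime 2) (hp' : (orderOf x).Coprime p) (hx : x ∈ normalizer (U : Set G))
    {w : G} (hw : w ∈ U) : Commute x w := by
  obtain ⟨a, rfl⟩ := hU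
  exact hE.setting.commute_of_mem_normalizer (Functor.isPGroup_cj hE.data.isPGroup) hp' h2 hx hw

theorem commute_of_fixes_pt {U : Subgroup G} (hU : IsPt V U) {x v : G} {k : ℕ}
    (hx : x ∈ normalizer (U : Set G)) (hxp : orderOf x = p ^ k) (hv : v ∈ U) (hv1 : v ≠ 1)
    (hxv : Commute x v) {w : G} (hw : w ∈ U) : Commute x w := by
  obtain ⟨a, rfl⟩ := hU
  rw [← Functor.cj_normalizer, Functor.mem_cj] at hx
  have hinj : ∀ {y z : G}, Commute (a⁻¹ * y * a) (a⁻¹ * z * a) → Commute y z := fun {y z} h => by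
    show y * z = z * y
    calc y * z = a * ((a⁻¹ * y * a) * (a⁻¹ * z * a)) * a⁻¹ := by group
      _ = a * ((a⁻¹ * z * a) * (a⁻¹ * y * a)) * a⁻¹ := by rw [h.eq]
      _ = _ := by group
  refine hinj (hE.commute_of_fixes (k := k) hx ?_ (Functor.mem_cj.1 hv) ?_ ?_ (Functor.mem_cj.1 hw))
  · have := SECount.orderOf_conj_eq a⁻¹ x
    rw [inv_inv] at this
    rw [this, hxp]
  · intro h
    have h1 : a * (a⁻¹ * v * a) * a⁻¹ = 1 := by rw [h, mul_one, mul_inv_cancel]
    exact hv1 (by simpa [mul_assoc] using h1)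
  · show (a⁻¹ * x * a) * (a⁻¹ * v * a) = (a⁻¹ * v * a) * (a⁻¹ * x * a)
    calc (a⁻¹ * x * a) * (a⁻¹ * v * a) = a⁻¹ * (x * v) * a := by group
      _ = a⁻¹ * (v * x) * a := by rw [hxv.eq]
      _ = _ := by group

/-- The stabiliser of two points is a `p`-group. -/
theorem isPGroup_stab {U U' : Subgroup G} (hU : IsPt V U) (hU' : IsPt V U') (hne : U ≠ U') :
    IsPGroup p ↥(normalizer (U : Set G) ⊓ normalizer (U' : Set G)) := by
  rintro ⟨x, hx⟩
  refine ⟨(orderOf x).factorization p, Subtype.ext ?_⟩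
  rw [SubgroupClass.coe_pow, coe_one]
  set y := x ^ p ^ (orderOf x).factorization p with hy
  have hyD : y ∈ normalizer (U : Set G) ⊓ normalizer (U' : Set G) := pow_mem hx _
  have hyp : (orderOf y).Coprime p := by
    rw [hy, orderOf_pow' _ (pow_ne_zero _ hE.setting.prime.ne_zero),
      Nat.gcd_eq_right (Nat.ordProj_dvd _ p)]
    exact (Nat.coprime_ordCompl hE.setting.prime (orderOf_pos x).ne').symm
  by_cases h2 : 2 ∣ orderOf y
  · exfalso
    set s := y ^ (orderOf y / 2)
    have hs : orderOf s = 2 := by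
      rw [orderOf_pow, Nat.gcd_eq_right (Nat.div_dvd_of_dvd h2),
        Nat.div_div_self h2 (orderOf_pos y).ne']
    exact hne (hE.pt_eq hXV hU hU' (hE.invo_mem_pt hXV hU (pow_mem hyD.1 _) hs)
      (hE.invo_mem_pt hXV hU' (pow_mem hyD.2 _) hs) (SECount.invo_ne_one hs))
  have hy2 : (orderOf y).Coprime 2 := (Nat.prime_two.coprime_iff_not_dvd.2 h2).symm
  exact hE.eq_one_of_centralizes hXV hU hU' hne
    (fun w hw => mem_centralizer_singleton_iff.2
      (hE.commute_of_coprime_pt hXV hU hy2 hyp hyD.1 hw).eq.symm)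
    (fun w hw => mem_centralizer_singleton_iff.2
      (hE.commute_of_coprime_pt hXV hU' hy2 hyp hyD.2 hw).eq.symm)

/-- **`X = N(V)` is impossible.** -/
theorem false_of_le_normalizer : False := by
  classical
  haveI := Fintype.ofFinite G
  haveI := Fintype.ofFinite (Subgroup G)
  have hS := hE.setting
  haveI := Fact.mk hS.prime
  have hcard := hE.card_eq
  set Ω := Finset.univ.filter (IsPt V) with hΩ
  set Inv := Finset.univ.filter (fun t : G => orderOf t = 2) with hInv
  have memΩ : ∀ {U}, U ∈ Ω ↔ IsPt V U := by simp [hΩ]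
  have memInv : ∀ {t}, t ∈ Inv ↔ orderOf t = 2 := by simp [hInv]
  have cjpt : ∀ (w : G) {U}, IsPt V U → IsPt V (cj w U) := by
    rintro w U ⟨a, rfl⟩; exact ⟨w * a, cj_cj w a V⟩
  have hVΩ : V ∈ Ω := memΩ.2 ⟨1, (Functor.cj_one V).symm⟩
  choose pt hpt hmem using fun t : {t : G // orderOf t = 2} => hE.exists_pt hXV t.2
  have hUne : ∀ {U}, IsPt V U → ∃ v ∈ U, v ≠ 1 := by
    rintro U ⟨a, rfl⟩
    obtain ⟨v, hv, hv1⟩ := hE.data.exists_ne_one
    exact ⟨a * v * a⁻¹, Functor.conj_mem_cj hv, fun h => hv1 (conj_eq_one_iff.1 h)⟩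
  have hfibre : ∀ {U}, IsPt V U → (Inv.filter (· ∈ U)).card = p := by
    intro U hU
    have h1 : Inv.filter (· ∈ U) = (Finset.univ.filter (· ∈ U)).erase 1 := by
      ext t
      simp only [Finset.mem_filter, Finset.mem_erase, Finset.mem_univ, true_and, memInv]
      exact ⟨fun h => ⟨SECount.invo_ne_one h.1, h.2⟩,
        fun h => ⟨hE.pt_invo hXV hU h.2 h.1, h.2⟩⟩
    rw [h1, Finset.card_erase_of_mem (by simp [U.one_mem])]
    obtain ⟨a, rfl⟩ := hU
    have : (Finset.univ.filter (· ∈ cj a V)).card = p + 1 := by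
      rw [← Fintype.card_subtype, ← Nat.card_eq_fintype_card, Functor.card_cj, hcard]
    omega
  have hInvC : Inv.card = p * Ω.card := by
    have hd : Inv = Ω.biUnion (fun U => Inv.filter (· ∈ U)) := by
      ext t
      simp only [Finset.mem_biUnion, Finset.mem_filter]
      refine ⟨fun ht => ⟨pt ⟨t, memInv.1 ht⟩, memΩ.2 (hpt _), ht, hmem ⟨t, memInv.1 ht⟩⟩, ?_⟩
      rintro ⟨U, -, ht, -⟩; exact ht
    rw [hd, Finset.card_biUnion]
    · rw [Finset.sum_congr rfl fun U hU => hfibre (memΩ.1 hU), Finset.sum_const, smul_eq_mul,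
        mul_comm]
    · intro U hU U' hU' hne
      refine Finset.disjoint_left.2 fun t ht ht' => hne ?_
      rw [Finset.mem_filter] at ht ht'
      exact hE.pt_eq hXV (memΩ.1 hU) (memΩ.1 hU') ht.2 ht'.2 (SECount.invo_ne_one (memInv.1 ht.1))
  have hfixmem : ∀ {U t}, IsPt V U → orderOf t = 2 → (cj t U = U ↔ t ∈ U) := by
    intro U t hU ht
    refine ⟨fun h => hE.invo_mem_pt hXV hU (Functor.mem_normalizer_of_cj_eq h) ht, fun h => ?_⟩
    exact Functor.cj_eq_self_of_mem (le_normalizer h)
  set out := fun U : Subgroup G => Inv.filter (fun w => cj w U ≠ U) with hout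
  have houtC : ∀ {U}, IsPt V U → (out U).card = p * (Ω.card - 1) := by
    intro U hU
    have h1 : Inv.filter (fun w => cj w U = U) = Inv.filter (· ∈ U) :=
      Finset.filter_congr fun t ht => hfixmem hU (memInv.1 ht)
    have h2 := Finset.card_filter_add_card_filter_not (s := Inv) (fun w => cj w U = U)
    rw [h1, hfibre hU, hInvC] at h2
    rw [Nat.mul_sub, mul_one]
    simp only [hout, ne_eq]
    omega
  set J := fun U U' : Subgroup G => Inv.filter (fun w => cj w U = U') with hJ
  have hinvol : ∀ {w} {U U' : Subgroup G}, orderOf w = 2 → cj w U = U' → cj w U' = U := by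
    intro w U U' hw h
    rw [← h, cj_cj, SECount.invo_sq hw, Functor.cj_one]
  have hJle : ∀ {U U'}, IsPt V U → IsPt V U' → U ≠ U' → (J U U').card ≤ p := by
    intro U U' hU hU' hne
    obtain ⟨v, hv, hv1⟩ := hUne hU
    rw [← hfibre hU']
    refine Finset.card_le_card_of_injOn (fun w => w * v * w⁻¹) (fun w hw => ?_) ?_
    · rw [Finset.mem_coe, Finset.mem_filter] at hw
      rw [Finset.mem_coe, Finset.mem_filter, memInv]
      exact ⟨(SECount.orderOf_conj_eq w v).trans (hE.pt_invo hXV hU hv hv1),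
        hw.2 ▸ Functor.conj_mem_cj hv⟩
    · intro w hw w' hw' he
      rw [Finset.mem_coe, Finset.mem_filter, memInv] at hw hw'
      dsimp only at he
      have hwi := SECount.invo_inv hw.1
      have hwi' := SECount.invo_inv hw'.1
      set y := w' * w with hy
      have hyU : y ∈ normalizer (U : Set G) := Functor.mem_normalizer_of_cj_eq (by
        rw [← cj_cj, hw.2, hinvol hw'.1 hw'.2])
      have hyU' : y ∈ normalizer (U' : Set G) := Functor.mem_normalizer_of_cj_eq (by
        rw [← cj_cj, hinvol hw.1 hw.2, hw'.2])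
      obtain ⟨k, hk⟩ := IsPGroup.iff_orderOf.1 (hE.isPGroup_stab hXV hU hU' hne) ⟨y, hyU, hyU'⟩
      replace hk : orderOf y = p ^ k := by rw [← Subgroup.orderOf_coe] at hk; exact hk
      have hyv : Commute y v := by
        show w' * w * v = v * (w' * w)
        calc w' * w * v = w' * (w * v * w⁻¹) * w := by group
          _ = w' * (w' * v * w'⁻¹) * w := by rw [he]
          _ = (w' * w') * v * w' * w := by rw [hwi']; group
          _ = v * (w' * w) := by rw [SECount.invo_sq hw'.1, one_mul, mul_assoc]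
      have hcU : ∀ u ∈ U, Commute y u := fun u hu =>
        hE.commute_of_fixes_pt hXV hU hyU hk hv hv1 hyv hu
      have hwy : w * y * w⁻¹ = y⁻¹ := by
        rw [hy, mul_inv_rev, hwi, hwi', ← mul_assoc, mul_assoc _ w w, SECount.invo_sq hw.1, mul_one]
      have hy1 : y = 1 := by
        refine hE.eq_one_of_centralizes hXV hU hU' hne
          (fun u hu => mem_centralizer_singleton_iff.2 (hcU u hu).eq.symm) fun u hu => ?_
        rw [← hw.2, Functor.mem_cj] at hu
        rw [mem_centralizer_singleton_iff]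
        have h1 := (hcU _ hu).inv_left
        rw [← hwy] at h1
        have h2 : w * y * w⁻¹ * (w⁻¹ * u * w) = w⁻¹ * u * w * (w * y * w⁻¹) := h1
        rw [hwi] at h2
        calc u * y = w * ((w * u * w) * (w * y * w)) * w := by
              simp [mul_assoc, mul_inv_cancel_left, SECount.invo_sq hw.1,
                ← mul_assoc w w]
          _ = w * ((w * y * w) * (w * u * w)) * w := by rw [h2]
          _ = y * u := by
              simp [mul_assoc, SECount.invo_sq hw.1, ← mul_assoc w w]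
      rw [hy, mul_eq_one_iff_eq_inv, hwi] at hy1
      exact hy1.symm
  have hJeq : ∀ {U U'}, IsPt V U → IsPt V U' → U ≠ U' → (J U U').card = p := by
    intro U U' hU hU' hne
    have h1 := Finset.card_eq_sum_card_fiberwise (f := fun w => cj w U) (s := out U)
      (t := Ω.erase U) (fun w hw => by
        rw [Finset.mem_coe, Finset.mem_filter] at hw
        exact Finset.mem_coe.2 (Finset.mem_erase.2 ⟨hw.2, memΩ.2 (cjpt w hU)⟩))
    have h2 : ∀ W ∈ Ω.erase U, ((out U).filter (fun w => cj w U = W)) = J U W := by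
      intro W hW
      rw [Finset.mem_erase] at hW
      ext w
      simp only [hout, hJ, Finset.mem_filter]
      exact ⟨fun h => ⟨h.1.1, h.2⟩, fun h => ⟨⟨h.1, fun e => hW.1 (h.2.symm.trans e)⟩, h.2⟩⟩
    rw [Finset.sum_congr rfl fun W hW => congrArg Finset.card (h2 W hW), houtC hU] at h1
    have h3 : ∑ W ∈ Ω.erase U, (J U W).card = ∑ _W ∈ Ω.erase U, p := by
      rw [← h1, Finset.sum_const, smul_eq_mul, Finset.card_erase_of_mem (memΩ.2 hU), mul_comm]
    exact (Finset.sum_eq_sum_iff_of_le fun W hW => hJle hU (memΩ.1 (Finset.mem_erase.1 hW).2)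
      (Finset.mem_erase.1 hW).1.symm).1 h3 U' (Finset.mem_erase.2 ⟨hne.symm, memΩ.2 hU'⟩)
  have hΩ2 : 2 ≤ Ω.card := by
    obtain ⟨g, hg⟩ := SetLike.exists_not_mem_of_ne_top X hE.ne_top rfl
    refine Finset.one_lt_card.2 ⟨V, hVΩ, cj g V, memΩ.2 ⟨g, rfl⟩, fun h => hg ?_⟩
    exact hE.normalizer_le (Functor.mem_normalizer_of_cj_eq h.symm)
  -- a `p`-element without fixed points
  obtain ⟨y, ⟨a, hya⟩, hyfix⟩ : ∃ y : G, (∃ a, orderOf y = p ^ a) ∧
      ∀ U, IsPt V U → cj y U ≠ U := by
    by_contra hno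
    push Not at hno
    set pairs := Inv.sigma (fun t => Inv.filter (fun w => ∀ U, IsPt V U → t ∈ U → w ∉ U))
    have hpairs : ∀ t ∈ Inv, (Inv.filter (fun w => ∀ U, IsPt V U → t ∈ U → w ∉ U)).card =
        p * (Ω.card - 1) := by
      intro t ht
      set U := pt ⟨t, memInv.1 ht⟩
      rw [← houtC (hpt ⟨t, memInv.1 ht⟩)]
      congr 1
      refine Finset.filter_congr fun w hw => ?_
      rw [ne_eq, hfixmem (hpt _) (memInv.1 hw)]
      exact ⟨fun h => h U (hpt _) (hmem ⟨t, memInv.1 ht⟩), fun h U' hU' htU' => by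
        rwa [hE.pt_eq hXV hU' (hpt _) htU' (hmem ⟨t, memInv.1 ht⟩)
          (SECount.invo_ne_one (memInv.1 ht))]⟩
    have hpc : pairs.card = p * Ω.card * (p * (Ω.card - 1)) := by
      rw [Finset.card_sigma, Finset.sum_congr rfl hpairs, Finset.sum_const, smul_eq_mul, hInvC]
    set tgt := Ω.sigma (fun U => (Ω.erase U).sigma (fun U' => (J U U').offDiag))
    have htc : tgt.card = Ω.card * ((Ω.card - 1) * (p * p - p)) := by
      rw [Finset.card_sigma, Finset.sum_congr rfl (g := fun _ => (Ω.card - 1) * (p * p - p))]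
      · rw [Finset.sum_const, smul_eq_mul]
      intro U hU
      rw [Finset.card_sigma, Finset.sum_congr rfl (g := fun _ => p * p - p)]
      · rw [Finset.sum_const, smul_eq_mul, Finset.card_erase_of_mem hU]
      intro U' hU'
      rw [Finset.offDiag_card, hJeq (memΩ.1 hU) (memΩ.1 (Finset.mem_erase.1 hU').2)
        (Finset.mem_erase.1 hU').1.symm]
    -- a product of involutions from different points is a `p`-element
    have hmemP : ∀ {t w : G}, (⟨t, w⟩ : Σ _ : G, G) ∈ pairs ↔
        orderOf t = 2 ∧ orderOf w = 2 ∧ ∀ U, IsPt V U → t ∈ U → w ∉ U := fun {t w} => by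
      simp only [pairs, Finset.mem_sigma]
      exact ⟨fun h => ⟨memInv.1 h.1, memInv.1 (Finset.mem_filter.1 h.2).1, (Finset.mem_filter.1 h.2).2⟩,
        fun h => ⟨memInv.2 h.1, Finset.mem_filter.2 ⟨memInv.2 h.2.1, h.2.2⟩⟩⟩
    have hfix : ∀ tw ∈ pairs, ∃ U, IsPt V U ∧ cj (tw.1 * tw.2) U = U := by
      rintro ⟨t, w⟩ htw
      rw [hmemP] at htw
      obtain ⟨ht, hw, hsep⟩ := htw
      set y := t * w
      have htinv : t * y * t⁻¹ = y⁻¹ := by
        rw [SECount.invo_inv ht, mul_inv_rev, SECount.invo_inv ht, SECount.invo_inv hw,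
          ← mul_assoc, SECount.invo_sq ht, one_mul]
      have hodd : ¬ 2 ∣ orderOf y := by
        intro h2
        set s := y ^ (orderOf y / 2)
        have hs : orderOf s = 2 := by
          rw [orderOf_pow, Nat.gcd_eq_right (Nat.div_dvd_of_dvd h2),
            Nat.div_div_self h2 (orderOf_pos y).ne']
        have hts : Commute t s := by
          have h1 : t * s * t⁻¹ = s := by
            rw [← conj_pow, htinv, inv_pow, SECount.invo_inv hs]
          show t * s = s * t
          calc t * s = t * s * t⁻¹ * t := by group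
            _ = s * t := by rw [h1]
        have hws : Commute w s := by
          have e : w = t * y := by rw [← mul_assoc, SECount.invo_sq ht, one_mul]
          rw [e]
          exact hts.mul_left (Commute.self_pow y _)
        obtain ⟨U, hU, hsU⟩ := hE.exists_pt hXV hs
        have hmemU : ∀ {r}, orderOf r = 2 → Commute r s → r ∈ U := by
          intro r hr hrs
          obtain ⟨W, hW, hrW⟩ := hE.exists_pt hXV hr
          have hn : cj r U = U := by
            refine hE.pt_eq hXV (cjpt r hU) hU (t := s) (Functor.mem_cj.2 ?_) hsU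
              (SECount.invo_ne_one hs)
            rwa [mul_assoc, ← hrs.eq, inv_mul_cancel_left]
          exact (hfixmem hU hr).1 hn
        exact hsep U hU (hmemU ht hts) (hmemU hw hws)
      have hp' : ∃ a, orderOf y = p ^ a := by
        refine ⟨(orderOf y).factorization p, ?_⟩
        set z := y ^ p ^ (orderOf y).factorization p with hz
        have hzo : orderOf z = ordCompl[p] (orderOf y) := by
          rw [hz, orderOf_pow' _ (pow_ne_zero _ hS.prime.ne_zero),
            Nat.gcd_eq_right (Nat.ordProj_dvd _ p)]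
        have hz1 : z = 1 := by
          refine hS.eq_one_of_inverted ht ?_ ?_ (by rw [← conj_pow, htinv, inv_pow])
          · exact ((Nat.prime_two.coprime_iff_not_dvd.2 hodd).symm).coprime_dvd_left
              (hzo ▸ Nat.ordCompl_dvd _ _)
          · rw [hzo]; exact (Nat.coprime_ordCompl hS.prime (orderOf_pos y).ne').symm
        have := Nat.ordProj_mul_ordCompl_eq_self (orderOf y) p
        rw [← hzo, hz1, orderOf_one, mul_one] at this
        exact this.symm
      obtain ⟨a, ha⟩ := hp'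
      obtain ⟨U, hU, hUy⟩ := hno y ⟨a, ha⟩
      exact ⟨U, hU, hUy⟩
    choose! fU hfU hfix using hfix
    have hle : pairs.card * 2 ≤ tgt.card := by
      have h1 : (pairs ×ˢ (Finset.univ : Finset Bool)).card = pairs.card * 2 := by
        rw [Finset.card_product, Finset.card_univ, Fintype.card_bool]
      rw [← h1]
      refine Finset.card_le_card_of_injOn (fun x => if x.2
        then ⟨fU x.1, cj x.1.1 (fU x.1), x.1.1, x.1.2⟩
        else ⟨cj x.1.1 (fU x.1), fU x.1, x.1.1, x.1.2⟩) ?_ ?_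
      · rintro ⟨⟨t, w⟩, b⟩ hx
        rw [Finset.mem_coe, Finset.mem_product] at hx
        obtain ⟨hx, -⟩ := hx
        have hU := hfU _ hx
        have hUy := hfix _ hx
        rw [hmemP] at hx
        obtain ⟨ht, hw, hsep⟩ := hx
        set U := fU ⟨t, w⟩
        have hwt : cj w U = cj t U := by
          have := congrArg (cj t) hUy
          rwa [cj_cj, ← mul_assoc, SECount.invo_sq ht, one_mul] at this
        have hne : cj t U ≠ U := fun h => hsep U hU ((hfixmem hU ht).1 h)
          ((hfixmem hU hw).1 (hwt.trans h))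
        have htw : t ≠ w := fun h => by
          obtain ⟨W, hW, htW⟩ := hE.exists_pt hXV ht
          exact hsep W hW htW (h ▸ htW)
        have m1 : t ∈ J U (cj t U) := Finset.mem_filter.2 ⟨memInv.2 ht, rfl⟩
        have m2 : w ∈ J U (cj t U) := Finset.mem_filter.2 ⟨memInv.2 hw, hwt⟩
        have m3 : t ∈ J (cj t U) U := Finset.mem_filter.2 ⟨memInv.2 ht, hinvol ht rfl⟩
        have m4 : w ∈ J (cj t U) U := Finset.mem_filter.2 ⟨memInv.2 hw, hinvol hw hwt⟩
        cases b
        · simp only [Bool.false_eq_true, if_false, Finset.mem_coe]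
          exact Finset.mem_sigma.2 ⟨memΩ.2 (cjpt t hU), Finset.mem_sigma.2
            ⟨Finset.mem_erase.2 ⟨Ne.symm hne, memΩ.2 hU⟩, Finset.mem_offDiag.2 ⟨m3, m4, htw⟩⟩⟩
        · simp only [if_true, Finset.mem_coe]
          exact Finset.mem_sigma.2 ⟨memΩ.2 hU, Finset.mem_sigma.2
            ⟨Finset.mem_erase.2 ⟨hne, memΩ.2 (cjpt t hU)⟩, Finset.mem_offDiag.2 ⟨m1, m2, htw⟩⟩⟩
      · rintro ⟨⟨t, w⟩, b⟩ hx ⟨⟨t', w'⟩, b'⟩ hx' he
        have hne : cj t (fU ⟨t, w⟩) ≠ fU ⟨t, w⟩ := by
          intro h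
          rw [Finset.mem_coe, Finset.mem_product] at hx
          have hU := hfU _ hx.1
          have hUy := hfix _ hx.1
          have hx1 := hx.1
          rw [hmemP] at hx1
          refine hx1.2.2 _ hU ((hfixmem hU hx1.1).1 h) ((hfixmem hU hx1.2.1).1 ?_)
          have := congrArg (cj t) hUy
          rw [cj_cj, ← mul_assoc, SECount.invo_sq hx1.1, one_mul] at this
          exact this.trans h
        cases b <;> cases b' <;>
          simp only [Bool.false_eq_true, if_false, if_true, Sigma.mk.injEq, heq_eq_eq,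
            Prod.mk.injEq] at he
        · obtain ⟨-, -, rfl, rfl⟩ := he; rfl
        · obtain ⟨h1, -, rfl, rfl⟩ := he; exact absurd h1 hne
        · obtain ⟨h1, -, rfl, rfl⟩ := he; exact absurd h1.symm hne
        · obtain ⟨-, -, rfl, rfl⟩ := he; rfl
    rw [hpc, htc] at hle
    have hpos : 0 < Ω.card * (Ω.card - 1) := Nat.mul_pos (by omega) (by omega)
    have h1 : p * p * 2 * (Ω.card * (Ω.card - 1)) ≤ (p * p - p) * (Ω.card * (Ω.card - 1)) := by
      calc _ = p * Ω.card * (p * (Ω.card - 1)) * 2 := by ring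
        _ ≤ Ω.card * ((Ω.card - 1) * (p * p - p)) := hle
        _ = _ := by ring
    have h2 := Nat.le_of_mul_le_mul_right h1 hpos
    have h3 : 0 < p * p := Nat.mul_pos hS.prime.pos hS.prime.pos
    omega
  -- a Sylow `p`-subgroup of `X` is not one of `G`
  obtain ⟨P, hP, -⟩ := Functor.exists_isSylowIn (p := p) (bot_le : ⊥ ≤ X) IsPGroup.of_bot
  obtain ⟨P1, hP1, hPP1⟩ := Functor.exists_isSylowIn (p := p) (le_top : P ≤ ⊤) hP.isPGroup
  have hne1 : P ≠ P1 := by
    rintro rfl
    obtain ⟨h, -, hh⟩ := hP1.exists_cj_le (Q := zpowers y) le_top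
      (IsPGroup.of_card (n := a) (by rw [Nat.card_zpowers, hya]))
    refine hyfix (cj h⁻¹ V) ⟨h⁻¹, rfl⟩ (Functor.cj_eq_self_of_mem ?_)
    rw [← Functor.cj_normalizer, Functor.mem_cj, ← hE.eq_normalizer hXV, inv_inv]
    exact hP.le (cj_le_iff.1 hh y (mem_zpowers y))
  obtain ⟨g, hgM, hgP⟩ := SetLike.exists_of_lt (Functor.lt_inf_normalizer hP1.isPGroup hPP1 hne1)
  obtain ⟨hgP1, hgN⟩ := mem_inf.1 hgM
  have hgX : g ∉ X := fun hgX => by
    have := hP.eq_of_le (le_sup_left : P ≤ P ⊔ zpowers g) (sup_le hP.le (zpowers_le.2 hgX))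
      (hP1.isPGroup.to_le (sup_le hPP1 (zpowers_le.2 hgP1)))
    exact hgP (this ▸ mem_sup_right (mem_zpowers g))
  set M := normalizer (P : Set G) with hM
  set F := Ω.filter (fun U : Subgroup G => P ≤ normalizer (U : Set G)) with hF
  have memF : ∀ {U : Subgroup G}, U ∈ F ↔ IsPt V U ∧ P ≤ normalizer (U : Set G) := by simp [hF, memΩ]
  have hVF : V ∈ F := memF.2 ⟨memΩ.1 hVΩ, hP.le.trans hXV⟩
  have hMF : ∀ {m : G} {U : Subgroup G}, m ∈ M → U ∈ F → cj m U ∈ F := by
    intro m U hm hU
    rw [memF] at hU ⊢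
    refine ⟨cjpt m hU.1, ?_⟩
    rw [← Functor.cj_normalizer, ← Functor.cj_eq_self_of_mem hm]
    exact Functor.cj_mono m hU.2
  have hgV : cj g V ≠ V := fun h => hgX (hE.normalizer_le (Functor.mem_normalizer_of_cj_eq h))
  have hD : ∀ {U U' : Subgroup G}, U ∈ F → U' ∈ F → U ≠ U' →
      normalizer (U : Set G) ⊓ normalizer (U' : Set G) = P := by
    intro U U' hU hU' hne
    rw [memF] at hU hU'
    set D := normalizer (U : Set G) ⊓ normalizer (U' : Set G)
    have hPD : P ≤ D := le_inf hU.2 hU'.2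
    refine (eq_of_le_of_card_ge hPD ?_).symm
    obtain ⟨b, hb⟩ := hU.1
    have hDp : IsPGroup p D := hE.isPGroup_stab hXV hU.1 hU'.1 hne
    have : cj b⁻¹ D ≤ X := by
      rw [hE.eq_normalizer hXV]
      refine (Functor.cj_mono _ (inf_le_left : D ≤ normalizer (U : Set G))).trans ?_
      rw [Functor.cj_normalizer, hb, Functor.cj_inv_cj]
    rw [← Functor.card_cj b⁻¹ D]
    exact hP.card_le this (Functor.isPGroup_cj hDp)
  have hJM : ∀ {U U' : Subgroup G} {w : G}, U ∈ F → U' ∈ F → U ≠ U' → orderOf w = 2 → cj w U = U' → w ∈ M := by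
    intro U U' w hU hU' hne hw h
    refine Functor.mem_normalizer_of_cj_le ?_
    conv_lhs => rw [← hD hU hU' hne]
    rw [cj, Subgroup.map_inf _ _ _ (MulAut.conj w).injective]
    show cj w (normalizer (U : Set G)) ⊓ cj w (normalizer (U' : Set G)) ≤ P
    rw [Functor.cj_normalizer, Functor.cj_normalizer, h, hinvol hw h, inf_comm, hD hU hU' hne]
  have htrans : ∀ {U : Subgroup G}, U ∈ F → U ≠ V → ∃ m, orderOf m = 2 ∧ m ∈ M ∧ cj m V = U := by
    intro U hU hne
    obtain ⟨w, hw⟩ := Finset.card_pos.1 (show 0 < (J V U).card by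
      rw [hJeq (memΩ.1 hVΩ) (memF.1 hU).1 hne.symm]; exact hS.prime.pos)
    rw [Finset.mem_filter, memInv] at hw
    exact ⟨w, hw.1, hJM hVF hU hne.symm hw.1 hw.2, hw.2⟩
  have hP0 : P ≠ ⊥ := by
    rintro rfl
    obtain ⟨x, hx⟩ := exists_prime_orderOf_dvd_card' (G := X) p (by
      obtain ⟨v, hv, hv1⟩ := hE.data.exists_ne_one
      have h := ((centralizer ({v} : Set G)).subgroupOf (normalizer (V : Set G))).index_dvd_card
      rw [hE.data.index_centralizer_normalizer] at h
      refine dvd_trans ?_ (h.trans (card_dvd_of_le hE.normalizer_le))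
      refine dvd_of_eq ?_
      symm
      rw [← hfibre (memΩ.1 hVΩ), Nat.card_eq_fintype_card, Fintype.card_subtype]
      congr 1
      ext w
      simp only [Finset.mem_filter, Finset.mem_univ, true_and, memInv]
      constructor
      · rintro ⟨n, hn, rfl⟩
        exact ⟨(SECount.orderOf_conj_eq n v).trans (hE.data.invo hv hv1),
          (mem_normalizer_iff.1 hn v).1 hv⟩
      · rintro ⟨hw, hwV⟩
        exact hE.exists_normalizer_conj hv hv1 hwV (SECount.invo_ne_one hw))
    have hle := hP.card_le (Q := zpowers (x : G)) (zpowers_le.2 x.2)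
      (IsPGroup.of_card (n := 1) (by rw [Nat.card_zpowers, orderOf_coe, hx, pow_one]))
    rw [Nat.card_zpowers, orderOf_coe, hx, card_bot] at hle
    exact absurd hle (not_le.2 hS.prime.one_lt)
  -- involutions of `M` move every point of `F`
  have hfpf : ∀ {t : G} {U : Subgroup G}, orderOf t = 2 → t ∈ M → U ∈ F → cj t U ≠ U := by
    intro t U ht htM hU h
    have htU := (hfixmem (memF.1 hU).1 ht).1 h
    have hPU : ∀ x ∈ P, ∀ u ∈ U, Commute x u := by
      intro x hx u hu
      have hxU := (memF.1 hU).2 hx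
      have hc : x * t * x⁻¹ * t⁻¹ = 1 := by
        obtain ⟨b, hb⟩ := (memF.1 hU).1
        have h1 : x * t * x⁻¹ * t⁻¹ ∈ P := by
          rw [show x * t * x⁻¹ * t⁻¹ = x * (t * x⁻¹ * t⁻¹) by group]
          exact P.mul_mem hx ((mem_normalizer_iff.1 htM _).1 (P.inv_mem hx))
        have h2 : x * t * x⁻¹ * t⁻¹ ∈ U :=
          U.mul_mem ((mem_normalizer_iff.1 hxU t).1 htU) (U.inv_mem htU)
        obtain ⟨k, hk⟩ := IsPGroup.iff_orderOf.1 hP.isPGroup ⟨_, h1⟩
        rw [orderOf_mk] at hk
        by_contra hne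
        have := hE.pt_invo hXV (memF.1 hU).1 h2 hne
        rw [hk] at this
        exact hS.p_ne_two ((Nat.prime_dvd_prime_iff_eq hS.prime Nat.prime_two).1
          (this ▸ dvd_pow_self p (by rintro rfl; simp at this)))
      have hxt : Commute x t := by
        rw [mul_inv_eq_one, mul_inv_eq_iff_eq_mul] at hc
        exact hc
      obtain ⟨k, hk⟩ := IsPGroup.iff_orderOf.1 hP.isPGroup ⟨x, hx⟩
      rw [orderOf_mk] at hk
      exact hE.commute_of_fixes_pt hXV (memF.1 hU).1 hxU hk htU (SECount.invo_ne_one ht) hxt hu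
    -- hence `P` centralises every point of `F`
    have hall : ∀ {U'}, U' ∈ F → U' ≠ U → ∀ x ∈ P, ∀ u ∈ U', Commute x u := by
      intro U' hU' hne x hx u hu
      obtain ⟨w, hw⟩ := Finset.card_pos.1 (show 0 < (J U U').card by
        rw [hJeq (memF.1 hU).1 (memF.1 hU').1 hne.symm]; exact hS.prime.pos)
      rw [Finset.mem_filter, memInv] at hw
      have hwM := hJM hU hU' hne.symm hw.1 hw.2
      rw [← hw.2, Functor.mem_cj] at hu
      have h1 : w⁻¹ * x * w ∈ P := (mem_normalizer_iff''.1 hwM x).1 hx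
      have h2 := (hPU _ h1 _ hu).eq
      show x * u = u * x
      calc x * u = w * ((w⁻¹ * x * w) * (w⁻¹ * u * w)) * w⁻¹ := by group
        _ = w * ((w⁻¹ * u * w) * (w⁻¹ * x * w)) * w⁻¹ := by rw [h2]
        _ = _ := by group
    obtain ⟨U', hU', hne⟩ : ∃ U' ∈ F, U' ≠ U := by
      by_cases hUV : U = V
      · exact ⟨cj g V, hMF hgN hVF, hUV ▸ hgV⟩
      · exact ⟨V, hVF, Ne.symm hUV⟩
    obtain ⟨⟨x, hx⟩, hx1⟩ := (ne_bot_iff_exists_ne_one.1 hP0)
    refine hx1 (Subtype.ext (hE.eq_one_of_centralizes hXV (memF.1 hU').1 (memF.1 hU).1 hne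
      (fun u hu => mem_centralizer_singleton_iff.2 (hall hU' hne x hx u hu).eq.symm)
      (fun u hu => mem_centralizer_singleton_iff.2 (hPU x hx u hu).eq.symm)))
  set Ms := Finset.univ.filter (· ∈ M) with hMs
  set Ps := Finset.univ.filter (· ∈ P) with hPs
  set fix := fun U : Subgroup G => Ms.filter (fun m => cj m U = U) with hfixdef
  have hPfix : ∀ {U : Subgroup G}, U ∈ F → Ps ⊆ fix U := by
    intro U hU x hx
    simp only [hPs, Finset.mem_filter, Finset.mem_univ, true_and] at hx
    simp only [hfixdef, hMs, Finset.mem_filter, Finset.mem_univ, true_and]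
    exact ⟨le_normalizer hx, Functor.cj_eq_self_of_mem ((memF.1 hU).2 hx)⟩
  have hfixC : ∀ {U : Subgroup G}, U ∈ F → (fix U).card = (fix V).card := by
    intro U hU
    by_cases hUV : U = V
    · rw [hUV]
    obtain ⟨w, hw, hwM, hwU⟩ := htrans hU hUV
    refine Finset.card_nbij' (fun m => w * m * w⁻¹) (fun m => w * m * w⁻¹) ?_ ?_ ?_ ?_
    · intro m hm
      simp only [hfixdef, hMs, Finset.coe_filter, Finset.mem_univ, Finset.mem_filter,
        true_and, Set.mem_setOf_eq] at hm ⊢
      refine ⟨M.mul_mem (M.mul_mem hwM hm.1) (M.inv_mem hwM), ?_⟩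
      rw [SECount.invo_inv hw, ← cj_cj, ← cj_cj, hwU, hm.2, hinvol hw hwU]
    · intro m hm
      simp only [hfixdef, hMs, Finset.coe_filter, Finset.mem_univ, Finset.mem_filter,
        true_and, Set.mem_setOf_eq] at hm ⊢
      refine ⟨M.mul_mem (M.mul_mem hwM hm.1) (M.inv_mem hwM), ?_⟩
      rw [SECount.invo_inv hw, ← cj_cj, ← cj_cj, hinvol hw hwU, hm.2, hwU]
    · intro m _
      simp [SECount.invo_inv hw, mul_assoc, SECount.invo_sq hw, ← mul_assoc w w]
    · intro m _
      simp [SECount.invo_inv hw, mul_assoc, SECount.invo_sq hw, ← mul_assoc w w]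
  have hMC : Ms.card = F.card * (fix V).card := by
    rw [Finset.card_eq_sum_card_fiberwise (f := fun m => cj m V) (s := Ms) (t := F)
      (fun m hm => by
        simp only [hMs, Finset.coe_filter, Finset.mem_univ, true_and, Set.mem_setOf_eq] at hm
        exact Finset.mem_coe.2 (hMF hm hVF))]
    rw [Finset.sum_congr rfl (g := fun _ => (fix V).card), Finset.sum_const, smul_eq_mul]
    intro U hU
    by_cases hUV : U = V
    · rw [hUV]
    obtain ⟨w, hw, hwM, hwU⟩ := htrans hU hUV
    refine Finset.card_nbij' (fun m => w * m) (fun m => w * m) ?_ ?_ ?_ ?_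
    · intro m hm
      simp only [hfixdef, hMs, Finset.coe_filter, Finset.mem_univ, Finset.mem_filter,
        true_and, Set.mem_setOf_eq] at hm ⊢
      exact ⟨M.mul_mem hwM hm.1, by rw [← cj_cj, hm.2, hinvol hw hwU]⟩
    · intro m hm
      simp only [hfixdef, hMs, Finset.coe_filter, Finset.mem_univ, Finset.mem_filter,
        true_and, Set.mem_setOf_eq] at hm ⊢
      exact ⟨M.mul_mem hwM hm.1, by rw [← cj_cj, hm.2, hwU]⟩
    · intro m _
      simp [← mul_assoc, SECount.invo_sq hw]
    · intro m _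
      simp [← mul_assoc, SECount.invo_sq hw]
  set I := Ms.filter (fun w => orderOf w = 2) with hI
  have hIC : I.card = (F.card - 1) * p := by
    rw [Finset.card_eq_sum_card_fiberwise (f := fun w => cj w V) (s := I) (t := F.erase V)
      (fun w hw => by
        simp only [hI, hMs, Finset.coe_filter, Finset.mem_filter, Finset.mem_univ, true_and,
          Set.mem_setOf_eq] at hw
        exact Finset.mem_coe.2 (Finset.mem_erase.2 ⟨hfpf hw.2 hw.1 hVF, hMF hw.1 hVF⟩))]
    rw [Finset.sum_congr rfl (g := fun _ => p), Finset.sum_const, smul_eq_mul,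
      Finset.card_erase_of_mem hVF]
    intro U hU
    rw [Finset.mem_erase] at hU
    rw [← hJeq (memΩ.1 hVΩ) (memF.1 hU.2).1 hU.1.symm]
    congr 1
    ext w
    simp only [hI, hMs, hJ, Finset.mem_filter, Finset.mem_univ, true_and, memInv]
    exact ⟨fun h => ⟨h.1.2, h.2⟩, fun h => ⟨⟨hJM hVF hU.2 hU.1.symm h.1 h.2, h.1⟩, h.2⟩⟩
  set IP := (I ×ˢ Ps).image (fun x => x.1 * x.2) with hIP
  have hIPC : (F.card - 1) * Ps.card ≤ IP.card := by
    have h1 : (I ×ˢ Ps).card ≤ p * IP.card := by
      refine Finset.card_le_mul_card_image (I ×ˢ Ps) p fun b hb => ?_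
      obtain ⟨⟨w0, x0⟩, h0, rfl⟩ := Finset.mem_image.1 hb
      simp only [Finset.mem_product, hI, hMs, hPs, Finset.mem_filter, Finset.mem_univ,
        true_and] at h0
      rw [← hJeq (memΩ.1 hVΩ) (memF.1 (hMF h0.1.1 hVF)).1 (hfpf h0.1.2 h0.1.1 hVF).symm]
      refine Finset.card_le_card_of_injOn Prod.fst (fun x hx => ?_) ?_
      · simp only [Finset.coe_filter, Finset.mem_product, hI, hMs, hPs, Finset.mem_filter,
          Finset.mem_univ, true_and, Set.mem_setOf_eq] at hx
        rw [Finset.mem_coe, Finset.mem_filter, memInv]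
        refine ⟨hx.1.1.2, ?_⟩
        calc cj x.1 V = cj (x.1 * x.2) V := by
              rw [← cj_cj, Functor.cj_eq_self_of_mem (hP.le.trans hXV hx.1.2)]
          _ = cj (w0 * x0) V := by rw [hx.2]
          _ = cj w0 V := by rw [← cj_cj, Functor.cj_eq_self_of_mem (hP.le.trans hXV h0.2)]
      · intro x hx x' hx' he
        simp only [Finset.coe_filter, Set.mem_setOf_eq] at hx hx'
        refine Prod.ext he (mul_left_cancel (a := x.1) ?_)
        rw [hx.2]
        conv_rhs => rw [he, hx'.2]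
    rw [Finset.card_product, hIC] at h1
    refine Nat.le_of_mul_le_mul_left ?_ hS.prime.pos
    calc p * ((F.card - 1) * Ps.card) = (F.card - 1) * p * Ps.card := by ring
      _ ≤ p * IP.card := h1
  have hgPs : g ∉ Ps := by simpa [hPs] using hgP
  set fixed := F.biUnion (fun U => fix U \ Ps) with hfixed
  have hfixedC : fixed.card = F.card * ((fix V).card - Ps.card) := by
    rw [hfixed, Finset.card_biUnion]
    · rw [Finset.sum_congr rfl (g := fun _ => (fix V).card - Ps.card), Finset.sum_const,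
        smul_eq_mul]
      intro U hU
      rw [Finset.card_sdiff_of_subset (hPfix hU), hfixC hU]
    · intro U hU U' hU' hne
      refine Finset.disjoint_left.2 fun m hm hm' => ?_
      simp only [Finset.mem_sdiff, hfixdef, hMs, hPs, Finset.mem_filter, Finset.mem_univ,
        true_and] at hm hm'
      exact hm.2 ((hD hU hU' hne).le ⟨Functor.mem_normalizer_of_cj_eq hm.1.2,
        Functor.mem_normalizer_of_cj_eq hm'.1.2⟩)
  have hIPmove : ∀ m ∈ IP, ∀ U ∈ F, cj m U ≠ U := by
    intro m hm U hU h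
    obtain ⟨⟨w, x⟩, hx, rfl⟩ := Finset.mem_image.1 hm
    simp only [Finset.mem_product, hI, hMs, hPs, Finset.mem_filter, Finset.mem_univ,
      true_and] at hx
    rw [← cj_cj, Functor.cj_eq_self_of_mem ((memF.1 hU).2 hx.2)] at h
    exact hfpf hx.1.2 hx.1.1 hU h
  have hgfpf : ∀ U ∈ F, cj g U ≠ U := by
    intro U hU h
    rw [memF] at hU
    obtain ⟨b, hb⟩ := hU.1
    have hgU := Functor.mem_normalizer_of_cj_eq h
    have hle : cj b⁻¹ (P ⊔ zpowers g) ≤ X := by
      rw [hE.eq_normalizer hXV]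
      refine (Functor.cj_mono _ (sup_le hU.2 (zpowers_le.2 hgU))).trans ?_
      rw [Functor.cj_normalizer, hb, Functor.cj_inv_cj]
    have hle' := hP.card_le hle
      (Functor.isPGroup_cj (hP1.isPGroup.to_le (sup_le hPP1 (zpowers_le.2 hgP1))))
    rw [Functor.card_cj] at hle'
    exact hgP ((eq_of_le_of_card_ge (le_sup_left : P ≤ P ⊔ zpowers g) hle').ge
      (mem_sup_right (mem_zpowers g)))
  have hgIP : g ∉ IP := by
    intro h
    obtain ⟨⟨w, x⟩, hx, hwx⟩ := Finset.mem_image.1 h
    simp only [Finset.mem_product, hI, hMs, hPs, Finset.mem_filter, Finset.mem_univ,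
      true_and] at hx
    have hw : w ∈ P1 := by
      have := P1.mul_mem hgP1 (P1.inv_mem (hPP1 hx.2))
      rwa [← hwx, mul_inv_cancel_right] at this
    obtain ⟨k, hk⟩ := IsPGroup.iff_orderOf.1 hP1.isPGroup ⟨w, hw⟩
    rw [orderOf_mk, hx.1.2] at hk
    exact hS.p_ne_two ((Nat.prime_dvd_prime_iff_eq hS.prime Nat.prime_two).1
      (hk ▸ dvd_pow_self p (by rintro rfl; simp at hk)))
  have hsub : insert g (Ps ∪ fixed ∪ IP) ⊆ Ms := by
    intro m hm
    simp only [Finset.mem_insert, Finset.mem_union, hfixed, Finset.mem_biUnion, Finset.mem_sdiff]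
      at hm
    simp only [hMs, Finset.mem_filter, Finset.mem_univ, true_and]
    rcases hm with rfl | (h | ⟨U, -, h, -⟩) | h
    · exact hgN
    · exact le_normalizer (by simpa [hPs] using h)
    · simp only [hfixdef, hMs, Finset.mem_filter, Finset.mem_univ, true_and] at h
      exact h.1
    · obtain ⟨⟨w, x⟩, hx, rfl⟩ := Finset.mem_image.1 h
      simp only [Finset.mem_product, hI, hMs, hPs, Finset.mem_filter, Finset.mem_univ,
        true_and] at hx
      exact M.mul_mem hx.1.1 (le_normalizer hx.2)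
  have hd1 : Disjoint Ps fixed := Finset.disjoint_left.2 fun m hm hm' => by
    simp only [hfixed, Finset.mem_biUnion, Finset.mem_sdiff] at hm'
    obtain ⟨U, -, -, h⟩ := hm'
    exact h hm
  have hd2 : Disjoint (Ps ∪ fixed) IP := Finset.disjoint_right.2 fun m hm hm' => by
    rcases Finset.mem_union.1 hm' with h | h
    · refine hIPmove m hm V hVF ?_
      exact (Finset.mem_filter.1 (hPfix hVF h)).2
    · simp only [hfixed, Finset.mem_biUnion, Finset.mem_sdiff] at h
      obtain ⟨U, hU, h, -⟩ := h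
      exact hIPmove m hm U hU (Finset.mem_filter.1 h).2
  have hgnot : g ∉ Ps ∪ fixed ∪ IP := by
    simp only [Finset.mem_union, hfixed, Finset.mem_biUnion, Finset.mem_sdiff]
    rintro ((h | ⟨U, hU, h, -⟩) | h)
    · exact hgPs h
    · exact hgfpf U hU (Finset.mem_filter.1 h).2
    · exact hgIP h
  have hfin := Finset.card_le_card hsub
  rw [Finset.card_insert_of_notMem hgnot, Finset.card_union_of_disjoint hd2,
    Finset.card_union_of_disjoint hd1, hfixedC, hMC] at hfin
  have hs : Ps.card ≤ (fix V).card := Finset.card_le_card (hPfix hVF)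
  obtain ⟨d, hd⟩ : ∃ d, (fix V).card = Ps.card + d := ⟨_, (Nat.add_sub_cancel' hs).symm⟩
  obtain ⟨f, hf⟩ : ∃ f, F.card = f + 1 := ⟨F.card - 1, by
    have := Finset.card_pos.2 ⟨V, hVF⟩
    omega⟩
  rw [hd, hf, Nat.add_sub_cancel_left] at hfin
  rw [hf, Nat.add_sub_cancel] at hIPC
  nlinarith

end Emb

end Cfsg.Agent.Lib.NilpotentPPrime
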