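import Mathlib
import Cfsg.Agent.Lib.NilpotentPPrime.Local
import Cfsg.Agent.Lib.NilpotentPPrime.CaseA
import Cfsg.Agent.Lib.Core.Fitting
import Cfsg.Agent.Lib.Elem69.PGroupSmall
import Cfsg.Agent.Lib.LocalChar.ReplacementRank
import Cfsg.Agent.Lib.Coprime.Quotient
import Cfsg.Agent.Lib.Coprime.Basic
import Cfsg.Agent.Lib.PGroup.NormalElem

/-!
# The case `V` not normal in `X`

`O_p(X)` is noncyclic; a noncyclic abelian normal subgroup `A` of a Sylow `p`-subgroup inside it
pins `X`: `A ≤ gXg⁻¹` forces `g ∈ X` when `O_{p'}(X) ≠ 1`. Then `ZJ` control produces an element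
of `X` inverting a `p`-element that is a product of two involutions, one in and one outside `X`.
-/

set_option autoImplicit false
set_option linter.style.haveILetI false

namespace Cfsg.Agent.Lib.NilpotentPPrime

open Subgroup Cfsg
open Cfsg.Agent.Lib.Functor (IsSylowIn cj cj_le_iff cj_cj)
open scoped commutatorElement

universe u

/-- A noncyclic normal subgroup of a `p`-group, `p` odd, contains a normal subgroup of type
`(p, p)`. -/
theorem exists_normal_sq_le {P : Type u} [Group P] [Finite P] {p : ℕ} [Fact p.Prime] (hp2 : p ≠ 2)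
    (hP : IsPGroup p P) (N : Subgroup P) [N.Normal] (hnc : ¬ IsCyclic N) :
    ∃ E : Subgroup P, E.Normal ∧ E ≤ N ∧ IsElementaryAbelian p E ∧ Nat.card E = p ^ 2 := by
  obtain ⟨E0, hE0n, hE0, hE0c, z, hzE, hzc, hz⟩ :=
    Elem69.exists_normal_elementary_sq hp2 (hP.to_subgroup N) hnc
  set K : Subgroup P :=
    { carrier := {x | x ∈ N ∧ x ^ p = 1 ∧ ∀ y ∈ N, ∀ w ∈ N, Commute ⁅x, y⁆ w}
      one_mem' := ⟨N.one_mem, one_pow p, fun y _ w _ => by simp⟩
      mul_mem' := fun {a b} ha hb => ⟨N.mul_mem ha.1 hb.1,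
        LocalChar.mul_pow_eq_one_of_commutator hp2 ha.2.1 hb.2.1 (hb.2.2 a ha.1 a ha.1)
          (hb.2.2 a ha.1 b hb.1), fun y hy w hw => by
          have hn : ⁅b, y⁆ ∈ N := N.mul_mem
            (N.mul_mem (N.mul_mem hb.1 hy) (N.inv_mem hb.1)) (N.inv_mem hy)
          have e : ⁅a * b, y⁆ = a * ⁅b, y⁆ * a⁻¹ * ⁅a, y⁆ := by
            simp only [commutatorElement_def]; group
          rw [e, ← (hb.2.2 y hy a ha.1).eq, mul_inv_cancel_right]
          exact (hb.2.2 y hy w hw).mul_left (ha.2.2 y hy w hw)⟩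
      inv_mem' := fun {a} ha => ⟨N.inv_mem ha.1, by rw [inv_pow, ha.2.1, inv_one], fun y hy w hw => by
        have hn : ⁅a, y⁆ ∈ N := N.mul_mem
          (N.mul_mem (N.mul_mem ha.1 hy) (N.inv_mem ha.1)) (N.inv_mem hy)
        have e : ⁅a⁻¹, y⁆ = a⁻¹ * ⁅a, y⁆⁻¹ * a := by
          simp only [commutatorElement_def]; group
        rw [e, mul_assoc, (ha.2.2 y hy a ha.1).inv_left.eq, inv_mul_cancel_left]
        exact (ha.2.2 y hy w hw).inv_left⟩ } with hK
  haveI hKn : K.Normal := ⟨fun x hx g => ⟨(inferInstance : N.Normal).conj_mem x hx.1 g, by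
    rw [conj_pow, hx.2.1, mul_one, mul_inv_cancel], fun y hy w hw => by
    have h := hx.2.2 _ ((inferInstance : N.Normal).conj_mem y hy g⁻¹) _
      ((inferInstance : N.Normal).conj_mem w hw g⁻¹)
    have h' := h.map (MulAut.conj g).toMonoidHom
    have e1 : (MulAut.conj g).toMonoidHom ⁅x, g⁻¹ * y * g⁻¹⁻¹⁆ = ⁅g * x * g⁻¹, y⁆ := by
      rw [map_commutatorElement]; simp [mul_assoc]
    have e2 : (MulAut.conj g).toMonoidHom (g⁻¹ * w * g⁻¹⁻¹) = w := by simp [mul_assoc]
    rwa [e1, e2] at h'⟩⟩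
  have hEK : E0.map N.subtype ≤ K := by
    rintro _ ⟨x, hx, rfl⟩
    refine ⟨x.2, congrArg Subtype.val (hE0.2 x hx), fun y hy w hw => ?_⟩
    haveI := Elem69.normal_zpowers_of_mem_center hzc
    haveI := hE0n
    set π := QuotientGroup.mk' (zpowers z) with hπ
    haveI : (E0.map π).Normal := Subgroup.Normal.map inferInstance _ (QuotientGroup.mk'_surjective _)
    have hcard : Nat.card (E0.map π) ≤ p := by
      have h1 := PSolvable.card_comap_mk' (zpowers z) (E0.map π)
      rw [comap_map_eq_self (by rw [QuotientGroup.ker_mk']; exact zpowers_le.2 hzE), hE0c,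
        Nat.card_zpowers, hz, pow_two] at h1
      exact (Nat.eq_of_mul_eq_mul_left (Fact.out : p.Prime).pos h1).ge
    have hcen := NormalElem.le_center_of_card_prime
      (hP.to_subgroup N |>.to_quotient _) hcard (mem_map_of_mem π hx)
    have hmem : ⁅x, (⟨y, hy⟩ : N)⁆ ∈ zpowers z := by
      rw [← QuotientGroup.eq_one_iff]
      show π ⁅x, ⟨y, hy⟩⁆ = 1
      rw [map_commutatorElement, commutatorElement_eq_one_iff_mul_comm]
      exact (mem_center_iff.1 hcen _).symm
    have hc : ⁅x, (⟨y, hy⟩ : N)⁆ ∈ center N := zpowers_le.2 hzc hmem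
    exact congrArg Subtype.val (mem_center_iff.1 hc ⟨w, hw⟩).symm
  obtain ⟨E, hEn, hEK', hEc, -⟩ := Elem69.exists_normal_card_sq_le hP K (by
    have := card_le_of_le hEK
    rwa [card_map_of_injective N.subtype_injective, hE0c] at this)
  exact ⟨E, hEn, fun x hx => (hEK' hx).1,
    ⟨IsPGroup.isMulCommutative_of_card_eq_prime_sq hEc, fun a ha => (hEK' ha).2.1⟩, hEc⟩

/-- In a solvable group without section `Qd(p)`, an abelian normal subgroup of a Sylow `p`-subgroup
lies in `O_{p',p}`. -/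
theorem le_pPrimePCore_of_abelian {H : Type u} [Group H] [Finite H] [Group.IsSolvable H] {p : ℕ}
    [Fact p.Prime] (hp : p ≠ 2) (hfree : ¬ Cfsg.Involves (Cfsg.qd p) H) (P : Sylow p H)
    {A : Subgroup H} (hA : IsMulCommutative A) (hAP : A ≤ P)
    (hPA : (P : Subgroup H) ≤ normalizer (A : Set H)) : A ≤ pPrimePCore p H := by
  set O := pPrimeCore p H with hO
  set π := QuotientGroup.mk' O with hπ
  have hπs : Function.Surjective π := QuotientGroup.mk'_surjective O
  set Pb := P.mapSurjective hπs with hPb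
  set W := pCore p (H ⧸ O) with hW
  haveI := hA
  have hAc : IsMulCommutative (A.map π) := Subgroup.map_isMulCommutative A π
  have hst := ThompsonNPC.isStableAt_of_not_involves hp (ThompsonNPC.not_involves_quotient O hfree)
    (Pb : Subgroup (H ⧸ O)) W inferInstance PSolvable.pCore_isPGroup (A.map π) hAc
    (by rw [hPb, Sylow.coe_mapSurjective]; exact map_mono hAP)
    ((PSolvable.pCore_le_sylow Pb).trans (by
      rw [hPb, Sylow.coe_mapSurjective]
      exact (map_mono hPA).trans (le_normalizer_map π)))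
  set C := centralizer (W : Set (H ⧸ O)) with hC
  have hCW : C ≤ W := SolvableCore.centralizer_pCore_le inferInstance
    PSolvable.pPrimeCore_quotient_eq_bot
  set N := (pCore p ((H ⧸ O) ⧸ C)).comap (QuotientGroup.mk' C) with hN
  have hNW : N ≤ W := by
    haveI : N.Normal := Subgroup.Normal.comap inferInstance _
    refine PSolvable.le_pCore ?_
    obtain ⟨i, hi⟩ := IsPGroup.iff_card.1 ((PSolvable.pCore_isPGroup (p := p)).to_le hCW)
    obtain ⟨j, hj⟩ := IsPGroup.iff_card.1 (PSolvable.pCore_isPGroup (p := p) (G := (H ⧸ O) ⧸ C))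
    exact IsPGroup.of_card (n := i + j) (by rw [hN, PSolvable.card_comap_mk', hi, hj, pow_add])
  intro a ha
  show π a ∈ W
  exact hNW (hst (mem_map_of_mem _ (mem_map_of_mem π ha)))

variable {G : Type u} [Group G] [Finite G] {p : ℕ}

/-- `O_{p'}(H)` inside the ambient group. -/
def pPrimePart (p : ℕ) (H : Subgroup G) : Subgroup G := (pPrimeCore p H).map H.subtype

/-- `O_p(H)` inside the ambient group. -/
def pPart (p : ℕ) (H : Subgroup G) : Subgroup G := (pCore p H).map H.subtype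

theorem pPrimePart_le (H : Subgroup G) : pPrimePart p H ≤ H := map_subtype_le _

theorem pPart_le (H : Subgroup G) : pPart p H ≤ H := map_subtype_le _

theorem pPrimePart_coprime (H : Subgroup G) : (Nat.card (pPrimePart p H)).Coprime p := by
  rw [pPrimePart, card_map_of_injective H.subtype_injective]
  exact PSolvable.pPrimeCore_coprime

theorem le_normalizer_pPrimePart (H : Subgroup G) :
    H ≤ normalizer (pPrimePart p H : Set G) := fun g hg =>
  le_normalizer_map H.subtype (mem_map_of_mem H.subtype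
    ((normalizer_eq_top (H := pPrimeCore p H)).ge (mem_top (⟨g, hg⟩ : H))))

theorem le_normalizer_pPart (H : Subgroup G) : H ≤ normalizer (pPart p H : Set G) := fun g hg =>
  le_normalizer_map H.subtype (mem_map_of_mem H.subtype
    ((normalizer_eq_top (H := pCore p H)).ge (mem_top (⟨g, hg⟩ : H))))

/-- A product of two involutions inverts: conjugation by the first. -/
theorem conj_mul_of_invo {t u : G} (ht : orderOf t = 2) (hu : orderOf u = 2) :
    t * (t * u) * t⁻¹ = (t * u)⁻¹ := by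
  rw [SECount.invo_inv ht, mul_inv_rev, SECount.invo_inv ht, SECount.invo_inv hu, ← mul_assoc,
    SECount.invo_sq ht, one_mul]

/-- An odd power of an element inverting `y` inverts `y`. -/
theorem conj_pow_of_inverts {e y : G} (h : e * y * e⁻¹ = y⁻¹) {m : ℕ} (hm : Odd m) :
    e ^ m * y * (e ^ m)⁻¹ = y⁻¹ := by
  obtain ⟨j, rfl⟩ := hm
  have h2 : Commute (e * e) y := by
    show e * e * y = y * (e * e)
    calc e * e * y = e * (e * y * e⁻¹) * e := by group
      _ = e * y⁻¹ * e⁻¹ * (e * e) := by rw [h]; group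
      _ = (e * y * e⁻¹)⁻¹ * (e * e) := by group
      _ = y * (e * e) := by rw [h, inv_inv]
  calc e ^ (2 * j + 1) * y * (e ^ (2 * j + 1))⁻¹
      = e * (((e * e) ^ j) * y * ((e * e) ^ j)⁻¹) * e⁻¹ := by
        rw [pow_succ', pow_mul, pow_two]; group
    _ = y⁻¹ := by rw [(h2.pow_left j).eq, mul_inv_cancel_right, h]

namespace Emb

variable {S : Sylow 2 G} {V X : Subgroup G} (hE : Emb p S V X)
  (hV : ¬ X ≤ normalizer (V : Set G))
include hE hV

theorem pCore_two_eq_bot : pPart 2 X = ⊥ := by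
  have : Fact (Nat.Prime 2) := ⟨Nat.prime_two⟩
  by_contra hne
  have hQ2 : IsPGroup 2 (pPart 2 X) := (PSolvable.pCore_isPGroup (p := 2) (G := X)).map _
  have hQS : pPart 2 X ≤ (S : Subgroup G) := by
    rintro _ ⟨x, hx, rfl⟩
    exact mem_subgroupOf.1 ((S.coe_subtype hE.sylow_le).le
      (PSolvable.pCore_le_sylow (S.subtype hE.sylow_le) hx))
  obtain ⟨v, hv, hv1, hv2, -⟩ := PReduced.exists_order_p_central (p := 2) hQ2 le_rfl le_normalizer hne
  have hvV := hE.mem_of_invo (hQS hv) (orderOf_eq_prime hv2 hv1)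
  have hVQ : V ≤ pPart 2 X := fun w hw => by
    by_cases hw1 : w = 1
    · rw [hw1]; exact one_mem _
    obtain ⟨n, hn, rfl⟩ := hE.exists_normalizer_conj hvV hv1 hw hw1
    exact (mem_normalizer_iff.1 (le_normalizer_pPart X (hE.normalizer_le hn)) v).1 hv
  exact hV fun x hx => Functor.mem_normalizer_of_cj_le (cj_le_iff.2 fun w hw =>
    hE.data.closed x w hw (hQS ((mem_normalizer_iff.1 (le_normalizer_pPart X hx) w).1 (hVQ hw))))

theorem pPrimePart_odd : (Nat.card (pPrimePart p X)).Coprime 2 := by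
  have : Fact (Nat.Prime 2) := ⟨Nat.prime_two⟩
  rw [pPrimePart, card_map_of_injective X.subtype_injective, Nat.coprime_comm,
    Nat.prime_two.coprime_iff_not_dvd]
  intro h
  set R := pPrimeCore p X
  haveI : Group.IsNilpotent R := (hE.setting.hyp.subgroup X) R PSolvable.pPrimeCore_coprime
  obtain ⟨T⟩ : Nonempty (Sylow 2 R) := inferInstance
  haveI : (T : Subgroup R).Normal :=
    ((Group.isNilpotent_of_finite_tfae (G := R)).out 0 3 rfl rfl).mp inferInstance 2 inferInstance T
  have hne : (T : Subgroup R).map R.subtype ≠ ⊥ := fun e =>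
    T.ne_bot_of_dvd_card h ((map_eq_bot_iff_of_injective _ R.subtype_injective).1 e)
  haveI : ((T : Subgroup R).map R.subtype).Normal := by
    haveI : (T : Subgroup R).Characteristic := T.characteristic_of_normal inferInstance
    infer_instance
  refine hne (le_bot_iff.1 ((PSolvable.le_pCore (T.2.map R.subtype)).trans ?_))
  exact ((map_eq_bot_iff_of_injective _ X.subtype_injective).1
    (hE.pCore_two_eq_bot hV)).le

theorem commute_V_pPrimePart {v r : G} (hv : v ∈ V) (hr : r ∈ pPrimePart p X) : Commute v r := by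
  refine hE.setting.hyp.commute (H := V ⊔ pPrimePart p X) ?_ (mem_sup_left hv) (mem_sup_right hr) ?_
  · refine Nat.Coprime.coprime_dvd_left
      (Hall.card_sup_dvd_of_le_normalizer (hE.le.trans (le_normalizer_pPrimePart X))) ?_
    obtain ⟨k, hk⟩ := IsPGroup.iff_card.1 hE.data.isPGroup
    rw [hk]
    exact (hE.setting.two_coprime.pow_left k).mul_left (pPrimePart_coprime X)
  · refine Nat.Coprime.coprime_dvd_left (orderOf_dvd_of_pow_eq_one (hE.data.sq hv)) ?_
    exact ((hE.pPrimePart_odd hV).coprime_dvd_left (Subgroup.orderOf_dvd_natCard _ hr)).symm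

theorem not_V_le_centralizer_pPart : ¬ V ≤ centralizer (pPart p X : Set G) := by
  intro hc
  haveI := hE.solvable
  haveI := Fact.mk hE.setting.prime
  obtain ⟨v, hv, hv1⟩ := hE.data.exists_ne_one
  set v' : X := ⟨v, hE.le hv⟩
  have hF : v' ∈ centralizer (fittingSubgroup X : Set X) := by
    have hle : fittingSubgroup X ≤ centralizer ({v'} : Set X) := by
      rw [Fitting.fittingSubgroup_eq_iSup_pCore]
      refine iSup_le fun q x hx => mem_centralizer_singleton_iff.2 (Subtype.ext ?_)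
      show (x : G) * v = v * x
      haveI := Fact.mk q.2
      by_cases hq : (q : ℕ) = p
      · rw [hq] at hx
        exact mem_centralizer_iff.1 (hc hv) _ (mem_map_of_mem _ hx)
      · exact (hE.commute_V_pPrimePart hV hv
          (mem_map_of_mem X.subtype (Fitting.pCore_le_pPrimeCore_of_ne hq hx))).eq.symm
    exact mem_centralizer_iff.2 fun x hx => mem_centralizer_singleton_iff.1 (hle hx)
  have hv2 : orderOf v' = 2 := by rw [← orderOf_coe]; exact hE.data.invo hv hv1
  have hvF := Fitting.centralizer_fittingSubgroup_le (G := X) hF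
  haveI : Group.IsNilpotent (fittingSubgroup X) := Fitting.isNilpotent_fittingSubgroup
  have : Fact (Nat.Prime 2) := ⟨Nat.prime_two⟩
  obtain ⟨T, hT⟩ := (IsPGroup.of_card (n := 1) (G := zpowers (⟨v', hvF⟩ : fittingSubgroup X))
    (by rw [Nat.card_zpowers, orderOf_mk, hv2, pow_one])).exists_le_sylow
  haveI : (T : Subgroup (fittingSubgroup X)).Normal :=
    ((Group.isNilpotent_of_finite_tfae (G := fittingSubgroup X)).out 0 3 rfl rfl).mp inferInstance 2
      inferInstance T
  haveI : (T : Subgroup (fittingSubgroup X)).Characteristic := T.characteristic_of_normal inferInstance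
  haveI := Fitting.fittingSubgroup_normal (G := X)
  have h1 : v' ∈ pCore 2 X :=
    PSolvable.le_pCore (T.2.map (fittingSubgroup X).subtype)
      (mem_map_of_mem (fittingSubgroup X).subtype (hT (mem_zpowers _)))
  refine hv1 ?_
  have : v ∈ pPart 2 X := mem_map_of_mem X.subtype h1
  rwa [hE.pCore_two_eq_bot hV, mem_bot] at this

theorem pPart_not_cyclic : ¬ IsCyclic (pPart p X) := by
  intro hcyc
  haveI := Fact.mk hE.setting.prime
  set P0 := pPart p X
  obtain ⟨⟨z, hz⟩, hgen⟩ := hcyc.exists_generator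
  have hgen' : ∀ x ∈ P0, x ∈ zpowers z := fun x hx => by
    obtain ⟨j, hj⟩ := hgen ⟨x, hx⟩
    exact ⟨j, congrArg Subtype.val hj⟩
  have hcen : ∀ {w}, Commute w z → w ∈ centralizer (P0 : Set G) := fun {w} hw =>
    mem_centralizer_iff.2 fun x hx => by
      obtain ⟨j, rfl⟩ := hgen' x hx
      exact (hw.zpow_right j).eq.symm
  obtain ⟨k, hk⟩ : ∃ k, orderOf z = p ^ k := by
    obtain ⟨k, hk⟩ := IsPGroup.iff_orderOf.1
      ((PSolvable.pCore_isPGroup (p := p) (G := X)).map X.subtype) ⟨z, hz⟩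
    rw [← Subgroup.orderOf_coe] at hk
    exact ⟨k, hk⟩
  -- only the identity of `V` centralises `O_p(X)`
  have hfaith : ∀ w ∈ V, Commute w z → w = 1 := by
    intro w hw hwz
    by_contra hw1
    refine hE.not_V_le_centralizer_pPart hV fun u hu => ?_
    by_cases hu1 : u = 1
    · rw [hu1]; exact one_mem _
    obtain ⟨n, hn, rfl⟩ := hE.exists_normalizer_conj hw hw1 hu hu1
    have hnP : n ∈ normalizer (P0 : Set G) := le_normalizer_pPart X (hE.normalizer_le hn)
    refine mem_centralizer_iff.2 fun x hx => ?_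
    have h := mem_centralizer_iff.1 (hcen hwz) _ ((mem_normalizer_iff''.1 hnP x).1 hx)
    calc x * (n * w * n⁻¹) = n * ((n⁻¹ * x * n) * w) * n⁻¹ := by group
      _ = n * (w * (n⁻¹ * x * n)) * n⁻¹ := by rw [h]
      _ = _ := by group
  -- every nontrivial element of `V` inverts `z`
  have hinv : ∀ w ∈ V, w ≠ 1 → w * z * w⁻¹ = z⁻¹ := by
    intro w hw hw1
    obtain ⟨r, hr⟩ := hgen' _ ((mem_normalizer_iff.1 (le_normalizer_pPart X (hE.le hw)) z).1 hz)
    have hr' : z ^ r = w * z * w⁻¹ := hr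
    have hrr : z ^ (r * r) = z := by
      rw [zpow_mul, hr', conj_zpow, hr']
      have hww : w * w = 1 := by rw [← pow_two]; exact hE.data.sq hw
      rw [inv_eq_of_mul_eq_one_right hww]
      calc w * (w * z * w) * w = (w * w) * z * (w * w) := by group
        _ = z := by rw [hww, one_mul, mul_one]
    have hd : (orderOf z : ℤ) ∣ (r - 1) * (r + 1) := by
      rw [orderOf_dvd_iff_zpow_eq_one, show (r - 1) * (r + 1) = r * r - 1 by ring, zpow_sub, hrr,
        zpow_one, mul_inv_cancel]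
    rw [hk, Nat.cast_pow] at hd
    have hpi : Prime (p : ℤ) := Nat.prime_iff_prime_int.1 hE.setting.prime
    rcases (em ((p : ℤ) ∣ r - 1)) with h | h
    · have h' : ¬ (p : ℤ) ∣ r + 1 := fun h2 => by
        have h3 : (p : ℤ) ∣ 2 := by
          have := dvd_sub h2 h
          simpa using this
        have := Int.le_of_dvd two_pos h3
        have := hE.setting.five
        omega
      have h1 : ((p : ℤ) ^ k) ∣ r - 1 := hpi.pow_dvd_of_dvd_mul_right k h' hd
      exfalso
      refine hw1 (hfaith w hw ?_)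
      show w * z = z * w
      have : z ^ (r - 1) = 1 := orderOf_dvd_iff_zpow_eq_one.1 (by rwa [hk, Nat.cast_pow])
      rw [zpow_sub, zpow_one, mul_inv_eq_one, hr'] at this
      exact mul_inv_eq_iff_eq_mul.1 this
    · have h1 : ((p : ℤ) ^ k) ∣ r + 1 := hpi.pow_dvd_of_dvd_mul_left k h hd
      have : z ^ (r + 1) = 1 := orderOf_dvd_iff_zpow_eq_one.1 (by rwa [hk, Nat.cast_pow])
      rw [zpow_add, zpow_one, hr'] at this
      exact mul_eq_one_iff_eq_inv.1 this
  obtain ⟨v, hv, hv1⟩ := hE.data.exists_ne_one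
  obtain ⟨⟨w, hw⟩, hwne⟩ : ∃ w : V, (w : G) ≠ 1 ∧ (w : G) ≠ v := by
    classical
    by_contra hall
    push Not at hall
    have hle : Nat.card V ≤ Nat.card Bool := by
      refine Nat.card_le_card_of_injective (fun u : V => decide ((u : G) = 1)) ?_
      intro a b hab
      simp only [decide_eq_decide] at hab
      by_cases ha : (a : G) = 1
      · exact Subtype.ext (ha.trans (hab.1 ha).symm)
      · exact Subtype.ext ((hall a ha).trans (hall b (fun hb => ha (hab.2 hb))).symm)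
    rw [Nat.card_eq_fintype_card (α := Bool), Fintype.card_bool] at hle
    linarith [hE.data.eight_le]
  refine hwne.2 ?_
  have hvw : Commute (v * w) z := by
    show v * w * z = z * (v * w)
    calc v * w * z = v * (w * z * w⁻¹) * v⁻¹ * (v * w) := by group
      _ = (v * z * v⁻¹)⁻¹ * (v * w) := by rw [hinv w hw hwne.1]; group
      _ = z * (v * w) := by rw [hinv v hv hv1, inv_inv]
  have h1 := hfaith (v * w) (V.mul_mem hv hw) hvw
  calc w = v⁻¹ * (v * w) := by group
    _ = v := by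
      rw [h1, mul_one]
      exact inv_eq_of_mul_eq_one_right (by rw [← pow_two]; exact hE.data.sq hv)

theorem commute_pPrimePart_pPart {r x : G} (hr : r ∈ pPrimePart p X) (hx : x ∈ pPart p X) :
    Commute r x := by
  haveI := Fact.mk hE.setting.prime
  obtain ⟨r, hr, rfl⟩ := hr
  obtain ⟨x, hx, rfl⟩ := hx
  have h : ⁅pCore p X, pPrimeCore p X⁆ = ⊥ := PSolvable.commutator_pCore_pPrimeCore
  exact congrArg Subtype.val (mem_centralizer_iff.1 (commutator_eq_bot_iff_le_centralizer.1 h hx) r hr)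

theorem pPart_ne_bot : pPart p X ≠ ⊥ := fun h =>
  hE.pPart_not_cyclic hV (h ▸ inferInstance)

theorem pPart_le_sylow {P : Subgroup G} (hP : IsSylowIn p X P) : pPart p X ≤ P := by
  haveI := Fact.mk hE.setting.prime
  obtain ⟨P', hP'⟩ := hP.exists_sylow
  rintro _ ⟨x, hx, rfl⟩
  exact mem_subgroupOf.1 (hP'.le (PSolvable.pCore_le_sylow P' hx))

/-- A noncyclic abelian subgroup of `O_p(X)` normal in `P` with centraliser in `X`. -/
theorem exists_pivot {P : Subgroup G} (hP : IsSylowIn p X P) : ∃ A : Subgroup G,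
    IsMulCommutative A ∧ ¬ IsCyclic A ∧ A ≤ P ∧ A ≤ X ∧ IsPGroup p A ∧
    P ≤ normalizer (A : Set G) ∧ centralizer (A : Set G) ≤ X ∧
    ∀ r ∈ pPrimePart p X, ∀ a ∈ A, Commute r a := by
  haveI := Fact.mk hE.setting.prime
  set P0 := pPart p X with hP0
  have hle := hE.pPart_le_sylow hV hP
  haveI : (P0.subgroupOf P).Normal := (normal_subgroupOf_iff_le_normalizer hle).2
    (hP.le.trans (le_normalizer_pPart X))
  have hnc : ¬ IsCyclic (P0.subgroupOf P) := fun h => hE.pPart_not_cyclic hV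
    ((subgroupOfEquivOfLe hle).isCyclic.1 h)
  obtain ⟨E', hE'n, hE'le, hE'el, hE'c⟩ :=
    exists_normal_sq_le hE.setting.p_ne_two hP.isPGroup (P0.subgroupOf P) hnc
  set E := E'.map P.subtype with hEdef
  have hEP0 : E ≤ P0 := (map_mono hE'le).trans (map_subgroupOf_eq_of_le hle).le
  have hEel : IsElementaryAbelian p E := ElemAbelian.map hE'el _
  set ZP := P0 ⊓ centralizer (P0 : Set G) with hZP
  have hZPne : ZP ≠ ⊥ := fun h => by
    obtain ⟨z, hz, hz1, -, hzc⟩ := PReduced.exists_order_p_central (p := p)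
      (hP.isPGroup.to_le hle) le_rfl le_normalizer (hE.pPart_ne_bot hV)
    exact hz1 (mem_bot.1 (h ▸ (⟨hz, hzc⟩ : z ∈ ZP)))
  have hAle : E ⊔ ZP ≤ P0 := sup_le hEP0 inf_le_left
  have hXZ : X ≤ normalizer (ZP : Set G) :=
    (le_normalizer_pPart X).trans (Coprime.le_normalizer_inf_centralizer le_rfl le_rfl)
  refine ⟨E ⊔ ZP, ?_, ?_, hAle.trans hle, hAle.trans (pPart_le X),
    hP.isPGroup.to_le (hAle.trans hle), ?_, ?_,
    fun r hr a ha => hE.commute_pPrimePart_pPart hV hr (hAle ha)⟩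
  · rw [show E ⊔ ZP = closure ((E : Set G) ∪ (ZP : Set G)) by
      rw [Subgroup.closure_union, Subgroup.closure_eq, Subgroup.closure_eq]]
    refine isMulCommutative_closure ?_
    rintro a (ha | ha) b (hb | hb)
    · exact ElemAbelian.comm hEel ha hb
    · exact mem_centralizer_iff.1 hb.2 a (hEP0 ha)
    · exact (mem_centralizer_iff.1 ha.2 b (hEP0 hb)).symm
    · exact mem_centralizer_iff.1 hb.2 a ha.1
  · intro hc
    have hEc : IsCyclic E := isCyclic_of_injective (inclusion (le_sup_left : E ≤ E ⊔ ZP))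
      (inclusion_injective _)
    obtain ⟨z, hz⟩ := hEc.exists_generator
    have h1 : Nat.card E ≤ orderOf z := by
      rw [← Nat.card_zpowers, (eq_top_iff' _).2 hz, card_top]
    have h2 : orderOf z ≤ p := Nat.le_of_dvd hE.setting.prime.pos
      (orderOf_dvd_of_pow_eq_one (Subtype.ext (hEel.2 z z.2)))
    have h3 : Nat.card E = p ^ 2 := by
      rw [hEdef, card_map_of_injective P.subtype_injective, hE'c]
    rw [h3] at h1
    nlinarith [hE.setting.five]
  · intro x hx
    refine Functor.mem_normalizer_of_cj_le ?_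
    show (E ⊔ ZP).map (MulAut.conj x).toMonoidHom ≤ E ⊔ ZP
    rw [Subgroup.map_sup]
    refine sup_le_sup (cj_le_iff.2 fun b hb => ?_)
      (cj_le_iff.2 fun b hb => (mem_normalizer_iff.1 (hXZ (hP.le hx)) b).1 hb)
    obtain ⟨b, hb, rfl⟩ := hb
    exact ⟨⟨x, hx⟩ * b * ⟨x, hx⟩⁻¹, hE'n.conj_mem b hb _, rfl⟩
  · exact ((Subgroup.centralizer_le (SetLike.coe_subset_coe.2 (le_sup_right : ZP ≤ E ⊔ ZP))).trans
      (centralizer_le_normalizer _)).trans
      (hE.normalizer_le_of_le hZPne (inf_le_left.trans (pPart_le X)) hXZ)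

/-- `O_{p'}(X) ≤ O_{p'}(H)` for solvable `H ⊇ A O_{p'}(X)`. -/
theorem pPrimePart_le_pPrimePart {A H : Subgroup G} (hA : IsPGroup p A)
    (hAX : centralizer (A : Set G) ≤ X) (hAR : ∀ r ∈ pPrimePart p X, ∀ a ∈ A, Commute r a)
    (hH : Group.IsSolvable H) (hAH : A ≤ H) (hRH : pPrimePart p X ≤ H) :
    pPrimePart p X ≤ pPrimePart p H := by
  haveI := Fact.mk hE.setting.prime
  haveI := hH
  set O := pPrimeCore p H with hO
  set π := QuotientGroup.mk' O with hπ
  set Q := pCore p (H ⧸ O) with hQ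
  set R' := (pPrimePart p X).subgroupOf H
  set A' := A.subgroupOf H
  set Rb := R'.map π
  set Ab := A'.map π
  have hQp : IsPGroup p Q := PSolvable.pCore_isPGroup
  have hRc : (Nat.card Rb).Coprime p := by
    refine Nat.Coprime.coprime_dvd_left (card_map_dvd _ _) ?_
    rw [Nat.card_congr (subgroupOfEquivOfLe hRH).toEquiv]
    exact pPrimePart_coprime X
  have hA'p : IsPGroup p A' := hA.comap_of_injective H.subtype H.subtype_injective
  have hC : Q ⊓ centralizer (Ab : Set (H ⧸ O)) ≤ centralizer (Rb : Set (H ⧸ O)) := by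
    intro q hq
    have hqA := hq.2
    rw [PSolvable.centralizer_map_mk' O PSolvable.pPrimeCore_coprime hA'p] at hqA
    obtain ⟨c, hc, rfl⟩ := hqA
    have hcX : (c : G) ∈ X := hAX (mem_centralizer_iff.2 fun a ha =>
      congrArg Subtype.val (mem_centralizer_iff.1 hc ⟨a, hAH ha⟩ ha))
    refine mem_centralizer_iff.2 ?_
    rintro _ ⟨r, hr, rfl⟩
    have h1 : ⁅π r, π c⁆ ∈ Rb ⊓ Q := by
      refine ⟨?_, ?_⟩
      · rw [← map_commutatorElement]
        refine mem_map_of_mem π ?_
        show r * c * r⁻¹ * c⁻¹ ∈ R'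
        rw [show r * c * r⁻¹ * c⁻¹ = r * (c * r⁻¹ * c⁻¹) by group]
        exact R'.mul_mem hr
          ((mem_normalizer_iff.1 (le_normalizer_pPrimePart X hcX) ((r⁻¹ : H) : G)).1
            (R'.inv_mem hr))
      · exact Q.mul_mem ((inferInstance : Q.Normal).conj_mem _ hq.1 _) (Q.inv_mem hq.1)
    rw [inf_comm, PSolvable.inf_eq_bot_of_isPGroup_of_coprime hQp hRc, mem_bot,
      commutatorElement_eq_one_iff_mul_comm] at h1
    exact h1
  have hle := Coprime.thompson_PxQ (U := Q) (P := Ab) (Q := Rb) (hA'p.map π) hRc hQp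
    (by
      rintro _ ⟨a, ha, rfl⟩
      refine mem_centralizer_iff.2 ?_
      rintro _ ⟨r, hr, rfl⟩
      rw [← map_mul, ← map_mul,
        show r * a = a * r from Subtype.ext (hAR r hr a ha).eq])
    (le_top.trans (normalizer_eq_top (H := Q)).ge) (le_top.trans (normalizer_eq_top (H := Q)).ge) hC
  have hbot : Rb ≤ Q ⊓ Rb := le_inf (hle.trans (SolvableCore.centralizer_pCore_le inferInstance
    PSolvable.pPrimeCore_quotient_eq_bot)) le_rfl
  rw [PSolvable.inf_eq_bot_of_isPGroup_of_coprime hQp hRc, le_bot_iff, Subgroup.map_eq_bot_iff, hπ,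
    QuotientGroup.ker_mk'] at hbot
  exact fun r hr => ⟨⟨r, hRH hr⟩, hbot hr, rfl⟩

/-- **`A ≤ gXg⁻¹` forces `g ∈ X`**, when `O_{p'}(X) ≠ 1`. -/
theorem mem_of_pivot {A : Subgroup G} [IsMulCommutative A] (hnc : ¬ IsCyclic A) (hA : IsPGroup p A)
    (hA' : A ≤ X) (hAX : centralizer (A : Set G) ≤ X)
    (hAR : ∀ r ∈ pPrimePart p X, ∀ a ∈ A, Commute r a) (hR : pPrimePart p X ≠ ⊥) {g : G}
    (hg : A ≤ cj g X) : g ∈ X := by
  haveI := Fact.mk hE.setting.prime
  set R := pPrimePart p X with hRdef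
  have hR'n : A ≤ normalizer ((cj g R : Subgroup G) : Set G) := by
    rw [← Functor.cj_normalizer]
    exact hg.trans (Functor.cj_mono g (le_normalizer_pPrimePart X))
  have hcop : (Nat.card A).Coprime (Nat.card (cj g R)) := by
    obtain ⟨k, hk⟩ := IsPGroup.iff_card.1 hA
    rw [hk, Functor.card_cj]
    exact (pPrimePart_coprime X).symm.pow_left k
  obtain ⟨a, ha, ha1, k', hk'R, hk'a, hk'1⟩ : ∃ a ∈ A, a ≠ 1 ∧
      ∃ k', k' ∈ cj g R ∧ k' ∈ centralizer ({a} : Set G) ∧ k' ≠ 1 := by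
    by_contra hno
    push Not at hno
    refine hR (Functor.cj_eq_bot_iff.1 (le_bot_iff.1
      (Coprime.le_of_noncyclic hnc hR'n hcop fun a ha ha1 x hx => ?_)))
    exact mem_bot.2 (hno a ha ha1 x hx.1 hx.2)
  -- an element of prime order
  set q := (orderOf k').minFac with hqdef
  have ho1 : orderOf k' ≠ 1 := fun h => hk'1 (orderOf_eq_one_iff.1 h)
  have hq : q.Prime := Nat.minFac_prime ho1
  haveI := Fact.mk hq
  set k := k' ^ (orderOf k' / q) with hk
  have hko : orderOf k = q := by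
    rw [hk, orderOf_pow, Nat.gcd_eq_right (Nat.div_dvd_of_dvd (Nat.minFac_dvd _)),
      Nat.div_div_self (Nat.minFac_dvd _) (orderOf_pos k').ne']
  have hkR : k ∈ cj g R := pow_mem hk'R _
  have hka : k ∈ centralizer ({a} : Set G) := pow_mem hk'a _
  set k0 := g⁻¹ * k * g with hk0
  have hk0R : k0 ∈ R := Functor.mem_cj.1 hkR
  have hk0o : orderOf k0 = q := by
    have := SECount.orderOf_conj_eq g⁻¹ k
    rw [inv_inv] at this
    rw [hk0, this, hko]
  have hk01 : k0 ≠ 1 := fun h => hq.ne_one (by rw [← hk0o, h, orderOf_one])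
  have hqd : q ∣ Nat.card R := hk0o ▸ Subgroup.orderOf_dvd_natCard _ hk0R
  have hq2 : q ≠ 2 := fun h => hq.ne_one
    (Nat.eq_one_of_dvd_coprimes (hE.pPrimePart_odd hV) hqd (dvd_of_eq h))
  have hqp : q ≠ p := fun h => hq.ne_one
    (Nat.eq_one_of_dvd_coprimes (pPrimePart_coprime (p := p) X) hqd (dvd_of_eq h))
  have hk0X : k0 ∈ X := pPrimePart_le X hk0R
  have hco2 : (orderOf k0).Coprime 2 := hk0o ▸ (Nat.coprime_primes hq Nat.prime_two).2 hq2
  have hcop' : (orderOf k0).Coprime p := hk0o ▸ (Nat.coprime_primes hq hE.setting.prime).2 hqp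
  set H := centralizer ({a} : Set G) with hH
  have hAH : A ≤ H := fun x hx => mem_centralizer_singleton_iff.2
    (congrArg Subtype.val (mul_comm' (⟨x, hx⟩ : A) ⟨a, ha⟩))
  have hRH : R ≤ H := fun x hx => mem_centralizer_singleton_iff.2 (hAR x hx a ha).eq
  set θ := pPrimePart p H with hθ
  have hk0θ : k0 ∈ θ := hE.pPrimePart_le_pPrimePart hV hA hAX hAR
    (hE.setting.centralizer_solvable ha1) hAH hRH hk0R
  have hz0 : IsPGroup q (zpowers k0) :=
    IsPGroup.of_card (n := 1) (by rw [Nat.card_zpowers, hk0o, pow_one])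
  obtain ⟨T, hT, hkT⟩ := Functor.exists_isSylowIn (p := q) (zpowers_le.2 (hRH hk0R)) hz0
  have hTX : T ≤ X := hE.le_of_qGroup hq2 hqp hT.isPGroup (hkT (mem_zpowers _)) hk0X hk01
  obtain ⟨h, hh, hhT⟩ := hT.exists_cj_le (zpowers_le.2 hka)
    (IsPGroup.of_card (n := 1) (by rw [Nat.card_zpowers, hko, pow_one]))
  have hhg : h * g ∈ X := hE.mem_of_conj_coprime hk0X hk01 hco2 hcop' (by
    have := hTX (cj_le_iff.1 hhT k (mem_zpowers k))
    rwa [hk0, show h * g * (g⁻¹ * k * g) * (h * g)⁻¹ = h * k * h⁻¹ by group])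
  obtain ⟨Tθ, hTθ, hkTθ⟩ := Functor.exists_isSylowIn (p := q) (zpowers_le.2 hk0θ) hz0
  have hTθX : Tθ ≤ X := hE.le_of_qGroup hq2 hqp hTθ.isPGroup (hkTθ (mem_zpowers _)) hk0X hk01
  obtain ⟨o, ho, hoT⟩ := hTθ.exists_cj_le (Q := cj h Tθ)
    (cj_le_iff.2 fun b hb => (mem_normalizer_iff.1 (le_normalizer_pPrimePart H hh) b).1 (hTθ.le hb))
    (Functor.isPGroup_cj hTθ.isPGroup)
  rw [cj_cj] at hoT
  have hoh : o * h ∈ X := hE.mem_of_conj_coprime hk0X hk01 hco2 hcop'
    (hTθX (cj_le_iff.1 hoT k0 (hkTθ (mem_zpowers _))))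
  have hohH : o * h ∈ H := H.mul_mem (pPrimePart_le H ho) hh
  set o2 := (o * h)⁻¹ * o * (o * h) with ho2
  have ho2θ : o2 ∈ θ := (mem_normalizer_iff''.1 (le_normalizer_pPrimePart H hohH) o).1 ho
  set x3 := (o * h)⁻¹ * (h * g) with hx3
  have hx3X : x3 ∈ X := X.mul_mem (X.inv_mem hoh) hhg
  have hge : g = o2 * x3 := by rw [ho2, hx3]; group
  have hcoset : ∀ b ∈ A, o2⁻¹ * (b * o2 * b⁻¹) ∈ θ ⊓ X := by
    intro b hb
    refine ⟨θ.mul_mem (θ.inv_mem ho2θ)
      ((mem_normalizer_iff.1 (le_normalizer_pPrimePart H (hAH hb)) o2).1 ho2θ), ?_⟩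
    rw [show o2⁻¹ * (b * o2 * b⁻¹) = (o2⁻¹ * b * o2) * b⁻¹ by group]
    refine X.mul_mem ?_ (X.inv_mem (hA' hb))
    have h1 : g⁻¹ * b * g ∈ X := Functor.mem_cj.1 (hg hb)
    have h2 := X.mul_mem (X.mul_mem hx3X h1) (X.inv_mem hx3X)
    rw [hge] at h2
    convert h2 using 1
    group
  obtain ⟨c, hc, hco⟩ := Coprime.exists_centralizer_mem_leftCoset (A := A) (N := θ ⊓ X) (k := o2)
    (fun b hb => Functor.mem_normalizer_of_cj_le (cj_le_iff.2 fun x hx =>
      ⟨(mem_normalizer_iff.1 (le_normalizer_pPrimePart H (hAH hb)) x).1 hx.1,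
        X.mul_mem (X.mul_mem (hA' hb) hx.2) (X.inv_mem (hA' hb))⟩))
    (by
      obtain ⟨j, hj⟩ := IsPGroup.iff_card.1 hA
      rw [hj]
      exact ((pPrimePart_coprime (p := p) H).coprime_dvd_left (card_dvd_of_le inf_le_left)).symm.pow_left j)
    (Or.inl (Group.isSolvable_of_comm fun x y => mul_comm' x y)) hcoset
  have ho2X : o2 ∈ X := by
    have := X.mul_mem (hAX hc) (X.inv_mem hco.2)
    simpa [mul_assoc] using this
  rw [hge]
  exact X.mul_mem ho2X hx3X

/-- **`V` not normal in `X` is impossible.** -/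
theorem false_of_not_le_normalizer : False := by
  have hS := hE.setting
  haveI := Fact.mk hS.prime
  haveI := hE.solvable
  have hqdX : ¬ Cfsg.Involves (Cfsg.qd p) X := ThompsonNPC.not_involves_subgroup X hS.qd_free
  obtain ⟨P, hP, -⟩ := Functor.exists_isSylowIn (p := p) (bot_le : ⊥ ≤ X) IsPGroup.of_bot
  have hP0 : P ≠ ⊥ := fun h => hE.pPart_ne_bot hV (le_bot_iff.1 (h ▸ hE.pPart_le_sylow hV hP))
  set Z := centerThompsonOf p P with hZ
  have hZP : Z ≤ P := OddStability.centerThompsonOf_le P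
  have hZne : Z ≠ ⊥ := by
    intro h
    have hJne : thompsonSubgroupOf p P ≠ ⊥ := Thompson.thompsonSubgroupOf_ne_bot
      (hP.isPGroup.card_eq_or_dvd.resolve_left fun e => hP0 (eq_bot_of_card_eq _ e))
    obtain ⟨z, hz, hz1, -, hzc⟩ := PReduced.exists_order_p_central (p := p)
      (hP.isPGroup.to_le (Thompson.thompsonSubgroupOf_le p P)) le_rfl le_normalizer hJne
    exact hz1 (mem_bot.1 (h ▸ (⟨hz, hzc⟩ : z ∈ Z)))
  set H := normalizer (Z : Set G) with hH
  have hHs : Group.IsSolvable H := hS.proper _ (hS.normalizer_ne_top hZne fun e =>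
    hE.ne_top (eq_top_iff.2 (e ▸ (hZP.trans hP.le))))
  have hPH : P ≤ H := le_normalizer.trans (OddStability.normalizer_le_normalizer_centerThompsonOf P)
  -- `H ≤ X` if `O_{p'}(X) = 1`
  have hB1 : pPrimePart p X = ⊥ → H ≤ X := by
    intro hR
    obtain ⟨P', hP'⟩ := hP.exists_sylow
    have hO : pPrimeCore p X = ⊥ :=
      (map_eq_bot_iff_of_injective _ X.subtype_injective).1 hR
    have hn : (centerThompsonOf p (P' : Subgroup X)).Normal :=
      ThompsonNPC.centerThompsonOf_normal_of_stable hS.p_ne_two P'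
        (SolvableCore.centralizer_pCore_le inferInstance hO)
        (ThompsonNPC.isStableAt_of_not_involves hS.p_ne_two hqdX _)
    refine hE.normalizer_le_of_le hZne (hZP.trans hP.le) fun x hx => ?_
    have h := le_normalizer_map X.subtype (mem_map_of_mem X.subtype
      ((normalizer_eq_top_iff.2 hn).ge (mem_top (⟨x, hx⟩ : X))))
    rwa [ThompsonNPC.centerThompsonOf_map_subtype, hP', map_subgroupOf_eq_of_le hP.le] at h
  -- `P` is a Sylow subgroup of `G`
  have hNP : normalizer (P : Set G) ≤ X := by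
    by_cases hR : pPrimePart p X = ⊥
    · exact (OddStability.normalizer_le_normalizer_centerThompsonOf P).trans (hB1 hR)
    · obtain ⟨A, hAc, hAnc, hAP, hA', hAp, -, hAX, hAR⟩ := hE.exists_pivot hV hP
      intro g hg
      refine hE.mem_of_pivot hV hAnc hAp hA' hAX hAR hR ?_
      refine hAP.trans ?_
      conv_lhs => rw [← Functor.cj_eq_self_of_mem hg]
      exact Functor.cj_mono g hP.le
  obtain ⟨P1, hP1, hPP1⟩ := Functor.exists_isSylowIn (p := p) (le_top : P ≤ ⊤) hP.isPGroup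
  have hPeq : P = P1 := by
    by_contra hne
    exact (Functor.lt_inf_normalizer hP1.isPGroup hPP1 hne).ne
      (hP.eq_of_le (le_inf hPP1 le_normalizer) (inf_le_right.trans hNP)
        (hP1.isPGroup.to_le inf_le_left))
  subst hPeq
  -- the element to be inverted
  obtain ⟨t, ht, htX⟩ := SECount.exists_invo_mem hE.embedded
  obtain ⟨u, hu, huX⟩ := SECount.exists_invo_not_mem hE.embedded
  set y := t * u with hy
  have hty : t * y * t⁻¹ = y⁻¹ := conj_mul_of_invo ht hu
  have hyodd : ¬ 2 ∣ orderOf y := by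
    intro h2
    set s := y ^ (orderOf y / 2)
    have hs : orderOf s = 2 := by
      rw [orderOf_pow, Nat.gcd_eq_right (Nat.div_dvd_of_dvd h2),
        Nat.div_div_self h2 (orderOf_pos y).ne']
    have hts : Commute t s := by
      have h1 : t * s * t⁻¹ = s := by rw [← conj_pow, hty, inv_pow, SECount.invo_inv hs]
      exact mul_inv_eq_iff_eq_mul.1 h1
    have hus : Commute u s := by
      have e : u = t * y := by rw [hy, ← mul_assoc, SECount.invo_sq ht, one_mul]
      rw [e]
      exact hts.mul_left (Commute.self_pow y _)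
    exact huX (hE.centralizer_le hs (hE.centralizer_le ht htX
      (mem_centralizer_singleton_iff.2 hts.eq.symm)) (mem_centralizer_singleton_iff.2 hus.eq))
  have hy2 : (orderOf y).Coprime 2 := (Nat.prime_two.coprime_iff_not_dvd.2 hyodd).symm
  obtain ⟨ay, hay⟩ : ∃ a, orderOf y = p ^ a := by
    refine ⟨(orderOf y).factorization p, ?_⟩
    set z := y ^ p ^ (orderOf y).factorization p with hz
    have hzo : orderOf z = ordCompl[p] (orderOf y) := by
      rw [hz, orderOf_pow' _ (pow_ne_zero _ hS.prime.ne_zero),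
        Nat.gcd_eq_right (Nat.ordProj_dvd _ p)]
    have hz1 : z = 1 := by
      refine hS.eq_one_of_inverted ht ?_ ?_ (by rw [← conj_pow, hty, inv_pow])
      · exact hy2.coprime_dvd_left (hzo ▸ Nat.ordCompl_dvd _ _)
      · rw [hzo]; exact (Nat.coprime_ordCompl hS.prime (orderOf_pos y).ne').symm
    have := Nat.ordProj_mul_ordCompl_eq_self (orderOf y) p
    rw [← hzo, hz1, orderOf_one, mul_one] at this
    exact this.symm
  have hy1ne : y ≠ 1 := by
    intro h
    refine huX ?_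
    have : u = t := by
      rw [hy, mul_eq_one_iff_inv_eq, SECount.invo_inv ht] at h
      exact h.symm
    rwa [this]
  obtain ⟨g, -, hgy⟩ := hP1.exists_cj_le (Q := zpowers y) le_top
    (IsPGroup.of_card (n := ay) (by rw [Nat.card_zpowers, hay]))
  set y1 := g * y * g⁻¹ with hy1
  have hy1P : y1 ∈ P := cj_le_iff.1 hgy y (mem_zpowers y)
  have hy1X : y1 ∈ X := hP.le hy1P
  set t1 := g * t * g⁻¹ with ht1
  have ht1o : orderOf t1 = 2 := (SECount.orderOf_conj_eq g t).trans ht
  have ht1y : t1 * y1 * t1⁻¹ = y1⁻¹ := by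
    rw [ht1, hy1]
    calc g * t * g⁻¹ * (g * y * g⁻¹) * (g * t * g⁻¹)⁻¹ = g * (t * y * t⁻¹) * g⁻¹ := by group
      _ = _ := by rw [hty]; group
  have hy1o : orderOf y1 = p ^ ay := (SECount.orderOf_conj_eq g y).trans hay
  have hy12 : (orderOf y1).Coprime 2 := by rw [hy1, SECount.orderOf_conj_eq]; exact hy2
  have hy11 : y1 ≠ 1 := fun h => hy1ne (conj_eq_one_iff.1 h)
  have hnoself : y1 ≠ y1⁻¹ := fun h => hy11 (by
    rw [← orderOf_eq_one_iff]
    exact Nat.eq_one_of_dvd_coprimes hy12 dvd_rfl (orderOf_dvd_of_pow_eq_one (by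
      rw [pow_two]; exact mul_eq_one_iff_eq_inv.2 h)))
  -- no conjugate of `X` contains `y1` and `t1`
  have hfinal : ∀ c : G, c⁻¹ * y1 * c ∈ X → c⁻¹ * t1 * c ∈ X → False := by
    intro c hcy hct
    set k := g⁻¹ * c with hk
    have h1 : k⁻¹ * t * k ∈ X := by
      rw [hk]; rw [ht1] at hct
      convert hct using 1
      group
    have h2 : k⁻¹ * u * k ∈ X := by
      have := X.mul_mem hct hcy
      rw [ht1, hy1, hy] at this
      convert this using 1
      rw [hk]
      calc (g⁻¹ * c)⁻¹ * u * (g⁻¹ * c) = c⁻¹ * g * ((t * t) * u) * (g⁻¹ * c) := by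
            rw [SECount.invo_sq ht]; group
        _ = _ := by group
    have hkX : k ∈ X := hE.mem_of_conj_mem (by
      have := SECount.orderOf_conj_eq k⁻¹ t
      rw [inv_inv] at this
      rw [this, ht]) h1 (by simpa [mul_assoc] using htX)
    refine huX ?_
    have := X.mul_mem (X.mul_mem hkX h2) (X.inv_mem hkX)
    simpa [mul_assoc] using this
  -- an element of `X` inverting `y1`
  obtain ⟨e, heX, hey⟩ : ∃ e ∈ X, e * y1 * e⁻¹ = y1⁻¹ := by
    set PS := hP1.isPGroup.toSylow (by rw [← relIndex_top_right]; exact hP1.not_dvd)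
    obtain ⟨n, hn, hn'⟩ := ThompsonNPC.controls_of_not_involves hS.p_ne_two G hS.qd_free PS
      {y1} t1⁻¹ (Set.singleton_subset_iff.2 hy1P) (by
        rintro _ ⟨z, hz, rfl⟩
        rw [Set.mem_singleton_iff.1 hz]
        show t1⁻¹⁻¹ * y1 * t1⁻¹ ∈ (PS : Subgroup G)
        rw [inv_inv, ht1y]
        exact P.inv_mem hy1P)
    have hm : n⁻¹ * y1 * n⁻¹⁻¹ = y1⁻¹ := by
      have := hn' y1 rfl
      rw [inv_inv] at this
      rw [inv_inv, this]
      exact ht1y
    have hmH : n⁻¹ ∈ H := inv_mem hn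
    by_cases hR : pPrimePart p X = ⊥
    · exact ⟨n⁻¹, hB1 hR hmH, hm⟩
    obtain ⟨A, hAc, hAnc, hAP, hA', hAp, hPA, hAX, hAR⟩ := hE.exists_pivot hV hP
    haveI := hHs
    obtain ⟨PH, hPHe⟩ := (hP1.inter hPH le_top).exists_sylow
    have hAO : A.subgroupOf H ≤ pPrimePCore p H := by
      refine le_pPrimePCore_of_abelian hS.p_ne_two
        (ThompsonNPC.not_involves_subgroup H hS.qd_free) PH ?_ ?_ ?_
      · refine ⟨⟨fun a b => Subtype.ext (Subtype.ext ?_)⟩⟩
        have h : ∀ {x z : G}, x ∈ A → z ∈ A → x * z = z * x := fun hx hz =>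
          congrArg Subtype.val (mul_comm' (⟨_, hx⟩ : A) ⟨_, hz⟩)
        exact h (mem_subgroupOf.1 a.2) (mem_subgroupOf.1 b.2)
      · rw [hPHe]; exact comap_mono hAP
      · rw [hPHe]; exact (comap_mono hPA).trans (le_normalizer_comap H.subtype)
    set θ := pPrimePart p H with hθ
    set M := (pPrimePCore p H).map H.subtype with hM
    have hHM : H ≤ normalizer (M : Set G) := fun x hx =>
      le_normalizer_map H.subtype (mem_map_of_mem H.subtype
        ((normalizer_eq_top_iff.2 (PSolvable.pPrimePCore_normal (p := p) (G := H))).ge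
          (mem_top (⟨x, hx⟩ : H))))
    have hMle : ∀ m ∈ M, ∃ o ∈ θ, ∃ q ∈ P, o * q = m := by
      rintro _ ⟨m, hm, rfl⟩
      set π := QuotientGroup.mk' (pPrimeCore p H) with hπ
      have h1 : m ∈ ((PH : Subgroup H).map π).comap π :=
        comap_mono (PSolvable.pCore_le_sylow (PH.mapSurjective (QuotientGroup.mk'_surjective _))) hm
      rw [comap_map_eq, hπ, QuotientGroup.ker_mk', hPHe, sup_comm] at h1
      obtain ⟨o, ho, q, hq, rfl⟩ := mem_sup_of_normal_left.1 h1
      exact ⟨o, mem_map_of_mem _ ho, q, mem_subgroupOf.1 hq, rfl⟩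
    set Q := P ⊓ M with hQ
    have hQs : IsSylowIn p M Q := by
      have := (hP1.inter hPH le_top).inf_normal (K := M) (map_subtype_le _) hHM
      exact this
    have hAM : A ≤ M := fun a ha => ⟨⟨a, hPH (hAP ha)⟩, hAO ha, rfl⟩
    obtain ⟨o1, ho1, ho1Q⟩ := hQs.exists_cj_le (Q := cj n⁻¹ Q)
      (cj_le_iff.2 fun b hb => (mem_normalizer_iff.1 (hHM hmH) b).1 hb.2)
      (Functor.isPGroup_cj hQs.isPGroup)
    rw [cj_cj] at ho1Q
    have hox : o1 * n⁻¹ ∈ X := by
      refine hE.mem_of_pivot hV hAnc hAp hA' hAX hAR hR ?_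
      refine (le_inf hAP hAM : A ≤ Q).trans ?_
      exact (eq_of_le_of_card_ge ho1Q (Functor.card_cj (o1 * n⁻¹) Q).ge).ge.trans
        (Functor.cj_mono _ (inf_le_left.trans hP.le))
    obtain ⟨o, ho, q, hq, hoq⟩ := hMle _ (inv_mem ho1)
    set n' := q * (o1 * n⁻¹) with hn''
    have hn'X : n' ∈ X := X.mul_mem (hP.le hq) hox
    have hn'H : n' ∈ H := H.mul_mem (hPH hq) (H.mul_mem (map_subtype_le _ ho1) hmH)
    have hmeq : n⁻¹ = o * n' := by rw [hn'', ← mul_assoc, hoq, inv_mul_cancel_left]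
    set x' := n' * y1 * n'⁻¹ with hx'
    have hx'X : x' ∈ X := X.mul_mem (X.mul_mem hn'X hy1X) (X.inv_mem hn'X)
    have hx'H : x' ∈ H := H.mul_mem (H.mul_mem hn'H (hPH hy1P)) (H.inv_mem hn'H)
    have hyx : y1⁻¹ = o * x' * o⁻¹ := by
      rw [← hm, hmeq, hx']; group
    set N0 := θ ⊓ X
    have hx'N : x' ∈ normalizer (N0 : Set G) := Functor.mem_normalizer_of_cj_le
      (cj_le_iff.2 fun b hb => ⟨(mem_normalizer_iff.1 (le_normalizer_pPrimePart H hx'H) b).1 hb.1,
        X.mul_mem (X.mul_mem hx'X hb.2) (X.inv_mem hx'X)⟩)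
    have ho1' : y1⁻¹ * x'⁻¹ ∈ N0 := by
      refine ⟨?_, X.mul_mem (X.inv_mem hy1X) (X.inv_mem hx'X)⟩
      rw [hyx, show o * x' * o⁻¹ * x'⁻¹ = o * (x' * o⁻¹ * x'⁻¹) by group]
      exact θ.mul_mem ho ((mem_normalizer_iff.1 (le_normalizer_pPrimePart H hx'H) _).1 (θ.inv_mem ho))
    have hx'p : IsPGroup p (zpowers x') := IsPGroup.of_card (n := ay) (by
      rw [Nat.card_zpowers, hx', SECount.orderOf_conj_eq, hy1o])
    have hN0c : (Nat.card N0).Coprime p :=
      (pPrimePart_coprime (p := p) H).coprime_dvd_left (card_dvd_of_le inf_le_left)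
    set T := zpowers x' ⊔ N0 with hT
    have hTs : IsSylowIn p T (zpowers x') := by
      refine ⟨le_sup_left, hx'p, fun hd => ?_⟩
      have h1 := PSolvable.card_mul_relIndex (le_sup_left : zpowers x' ≤ T)
      have h2 : Nat.card T ∣ Nat.card (zpowers x') * Nat.card N0 :=
        Hall.card_sup_dvd_of_le_normalizer (zpowers_le.2 hx'N)
      rw [← h1] at h2
      exact hS.prime.ne_one (Nat.eq_one_of_dvd_coprimes
        (hN0c.coprime_dvd_left ((Nat.mul_dvd_mul_iff_left Nat.card_pos).1 h2)) hd dvd_rfl)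
    have hyT : y1⁻¹ ∈ T := by
      have := T.mul_mem (mem_sup_right ho1' : y1⁻¹ * x'⁻¹ ∈ T) (mem_sup_left (mem_zpowers x'))
      rwa [inv_mul_cancel_right] at this
    obtain ⟨c, hc, hcle⟩ := hTs.exists_cj_le (Q := zpowers y1⁻¹) (zpowers_le.2 hyT)
      (IsPGroup.of_card (n := ay) (by rw [Nat.card_zpowers, orderOf_inv, hy1o]))
    have hcX : c ∈ X := (sup_le (zpowers_le.2 hx'X) inf_le_right : T ≤ X) hc
    have hcd : c * y1⁻¹ * c⁻¹ = x' := by
      obtain ⟨q', hq', o', ho', hce⟩ : ∃ q' ∈ zpowers x', ∃ o' ∈ N0, q' * o' = c := by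
        have h := hc
        rw [hT, ← SetLike.mem_coe,
          coe_mul_of_left_le_normalizer_right _ _ (zpowers_le.2 hx'N)] at h
        obtain ⟨a, ha, b, hb, e⟩ := Set.mem_mul.1 h
        exact ⟨a, ha, b, hb, e⟩
      have hd1 : c * y1⁻¹ * c⁻¹ * x'⁻¹ ∈ θ := by
        have hqH : q' ∈ H := zpowers_le.2 hx'H hq'
        have hqn := le_normalizer_pPrimePart (p := p) H hqH
        have hxn := le_normalizer_pPrimePart (p := p) H hx'H
        have e : c * y1⁻¹ * c⁻¹ * x'⁻¹ =
            (q' * o' * q'⁻¹) * (q' * (y1⁻¹ * x'⁻¹) * q'⁻¹) *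
              (q' * (x' * o'⁻¹ * x'⁻¹) * q'⁻¹) * (q' * x' * q'⁻¹ * x'⁻¹) := by
          rw [← hce]; group
        obtain ⟨j, rfl⟩ := hq'
        have hcm : x' ^ j * x' * (x' ^ j)⁻¹ * x'⁻¹ = 1 := by group
        rw [e, hcm, mul_one]
        exact θ.mul_mem (θ.mul_mem ((mem_normalizer_iff.1 hqn _).1 ho'.1)
          ((mem_normalizer_iff.1 hqn _).1 ho1'.1))
          ((mem_normalizer_iff.1 hqn _).1 ((mem_normalizer_iff.1 hxn _).1 (θ.inv_mem ho'.1)))
      have hd2 : c * y1⁻¹ * c⁻¹ * x'⁻¹ ∈ zpowers x' :=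
        mul_mem (cj_le_iff.1 hcle _ (mem_zpowers _)) (inv_mem (mem_zpowers _))
      have : c * y1⁻¹ * c⁻¹ * x'⁻¹ ∈ zpowers x' ⊓ θ := ⟨hd2, hd1⟩
      rw [PSolvable.inf_eq_bot_of_isPGroup_of_coprime hx'p (pPrimePart_coprime H), mem_bot,
        mul_inv_eq_one] at this
      exact this
    refine ⟨c⁻¹ * n', X.mul_mem (X.inv_mem hcX) hn'X, ?_⟩
    calc c⁻¹ * n' * y1 * (c⁻¹ * n')⁻¹ = c⁻¹ * x' * c := by rw [hx']; group
      _ = y1⁻¹ := by rw [← hcd]; group
  -- make it a 2-element
  set f := e ^ ordCompl[2] (orderOf e) with hf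
  have hfy : f * y1 * f⁻¹ = y1⁻¹ := conj_pow_of_inverts hey
    (Nat.coprime_two_right.1 (Nat.coprime_ordCompl Nat.prime_two (orderOf_pos e).ne').symm)
  have hfX : f ∈ X := pow_mem heX _
  obtain ⟨k, hk⟩ : ∃ k, orderOf f = 2 ^ k := by
    refine ⟨(orderOf e).factorization 2, ?_⟩
    rw [hf, orderOf_pow' _ (Nat.ordCompl_pos 2 (orderOf_pos e).ne').ne',
      Nat.gcd_eq_right (Nat.ordCompl_dvd _ 2)]
    exact Nat.div_eq_of_eq_mul_left (Nat.ordCompl_pos 2 (orderOf_pos e).ne')
      (Nat.ordProj_mul_ordCompl_eq_self _ 2).symm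
  obtain ⟨j, rfl⟩ : ∃ j, k = j + 1 := by
    refine ⟨k - 1, ?_⟩
    rcases k with _ | k
    · rw [pow_zero, orderOf_eq_one_iff] at hk
      rw [hk, one_mul, inv_one, mul_one] at hfy
      exact absurd hfy hnoself
    · rfl
  set s := f ^ 2 ^ j with hs
  have hso : orderOf s = 2 := by
    rw [hs, orderOf_pow' _ (pow_ne_zero _ two_ne_zero), hk,
      Nat.gcd_eq_right (pow_dvd_pow 2 (Nat.le_succ j)), pow_succ,
      Nat.mul_div_cancel_left _ (pow_pos two_pos j)]
  have hsX : s ∈ X := pow_mem hfX _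
  have ht1X : t1 ∉ X := fun h => hfinal 1 (by simpa using hy1X) (by simpa using h)
  set q := t1 * s with hq
  have hqodd : Odd (orderOf q) := by
    rw [← Nat.not_even_iff_odd]
    intro hev
    have h2 := even_iff_two_dvd.1 hev
    set z := q ^ (orderOf q / 2)
    have hzo : orderOf z = 2 := by
      rw [orderOf_pow, Nat.gcd_eq_right (Nat.div_dvd_of_dvd h2),
        Nat.div_div_self h2 (orderOf_pos q).ne']
    have htz : Commute t1 z := by
      have h1 : t1 * z * t1⁻¹ = z := by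
        rw [← conj_pow, conj_mul_of_invo ht1o hso, inv_pow, SECount.invo_inv hzo]
      exact mul_inv_eq_iff_eq_mul.1 h1
    have hsz : Commute s z := by
      have e : s = t1 * q := by rw [hq, ← mul_assoc, SECount.invo_sq ht1o, one_mul]
      rw [e]
      exact htz.mul_left (Commute.self_pow q _)
    exact ht1X (hE.centralizer_le hzo (hE.centralizer_le hso hsX
      (mem_centralizer_singleton_iff.2 hsz.eq.symm)) (mem_centralizer_singleton_iff.2 htz.eq))
  obtain ⟨l, hl⟩ := hqodd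
  set c := q ^ (l + 1) with hc
  have hsinv : s * c⁻¹ = c * s := by
    have h1 : s * q * s⁻¹ = q⁻¹ := by
      rw [hq, mul_inv_rev, SECount.invo_inv hso, SECount.invo_inv ht1o, mul_assoc, mul_assoc t1,
        SECount.invo_sq hso, mul_one]
    have h2 : s * c * s⁻¹ = c⁻¹ := by rw [hc, ← conj_pow, h1, inv_pow]
    calc s * c⁻¹ = s * (s * c * s⁻¹) := by rw [h2]
      _ = (s * s) * c * s⁻¹ := by group
      _ = c * s := by rw [SECount.invo_sq hso, one_mul, SECount.invo_inv hso]
  have htc : c * s * c⁻¹ = t1 := by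
    rw [mul_assoc, hsinv, ← mul_assoc, hc, ← pow_add,
      show l + 1 + (l + 1) = orderOf q + 1 by omega, pow_succ, pow_orderOf_eq_one, one_mul, hq,
      mul_assoc, SECount.invo_sq hso, mul_one]
  rcases Nat.eq_zero_or_pos j with rfl | hj
  · -- `s = f` inverts `y1`
    have hsy : s * y1 * s⁻¹ = y1⁻¹ := by rw [hs, pow_zero, pow_one]; exact hfy
    have hqy : Commute q y1 := by
      show q * y1 = y1 * q
      calc q * y1 = t1 * (s * y1 * s⁻¹) * t1⁻¹ * q := by rw [hq]; group
        _ = (t1 * y1 * t1⁻¹)⁻¹ * q := by rw [hsy]; group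
        _ = y1 * q := by rw [ht1y, inv_inv]
    refine hfinal c ?_ ?_
    · rwa [mul_assoc, ← (hqy.pow_left (l + 1)).eq, inv_mul_cancel_left]
    · rw [← htc]
      simpa [mul_assoc] using hsX
  · -- `s` centralises `y1`
    have hsy : Commute s y1 := by
      have h2 : Commute (f * f) y1 := by
        show f * f * y1 = y1 * (f * f)
        calc f * f * y1 = f * (f * y1 * f⁻¹) * f := by group
          _ = f * y1⁻¹ * f⁻¹ * (f * f) := by rw [hfy]; group
          _ = (f * y1 * f⁻¹)⁻¹ * (f * f) := by group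
          _ = _ := by rw [hfy, inv_inv]
      obtain ⟨i, rfl⟩ : ∃ i, j = i + 1 := ⟨j - 1, by omega⟩
      rw [hs, pow_succ' 2 i, pow_mul, pow_two]
      exact h2.pow_left _
    have hqn : c ∈ normalizer (zpowers y1 : Set G) := by
      refine pow_mem ?_ _
      refine Functor.mem_normalizer_of_cj_le (cj_le_iff.2 fun b hb => ?_)
      obtain ⟨i, rfl⟩ := hb
      show q * y1 ^ i * q⁻¹ ∈ zpowers y1
      rw [← conj_zpow]
      refine Subgroup.zpow_mem _ ?_ i
      have : q * y1 * q⁻¹ = y1⁻¹ := by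
        rw [hq]
        calc t1 * s * y1 * (t1 * s)⁻¹ = t1 * ((s * y1) * s⁻¹) * t1⁻¹ := by group
          _ = t1 * y1 * t1⁻¹ := by rw [hsy.eq, mul_inv_cancel_right]
          _ = y1⁻¹ := ht1y
      rw [this]
      exact inv_mem (mem_zpowers y1)
    obtain ⟨i, hi⟩ := (mem_normalizer_iff''.1 hqn y1).1 (mem_zpowers y1)
    have hi' : y1 ^ i = c⁻¹ * y1 * c := hi
    have hcomm : Commute s (c⁻¹ * y1 * c) := hi' ▸ hsy.zpow_right i
    refine hnoself ?_
    calc y1 = c * (c⁻¹ * y1 * c) * c⁻¹ := by group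
      _ = c * (s * (c⁻¹ * y1 * c) * s⁻¹) * c⁻¹ := by rw [hcomm.eq, mul_inv_cancel_right]
      _ = (c * s * c⁻¹) * y1 * (c * s * c⁻¹)⁻¹ := by group
      _ = y1⁻¹ := by rw [htc, ht1y]

end Emb

end Cfsg.Agent.Lib.NilpotentPPrime
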