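import Mathlib
import Cfsg.Agent.Lib.NilpotentPPrime.CaseB

/-!
# If all `p'`-subgroups are nilpotent, `p ≥ 5`, the group is solvable
-/

set_option autoImplicit false

namespace Cfsg.Agent.Lib.NilpotentPPrime

universe u

theorem isSolvable {G : Type u} [Group G] [Finite G] {p : ℕ} (hp : p.Prime) (h5 : 5 ≤ p)
    (h : Hyp p G) : Group.IsSolvable G := by
  refine isSolvable_of_no_setting hp h5 (fun G _ _ hS => ?_) G h
  obtain ⟨S, V, X, hE⟩ := exists_emb hS
  by_cases hV : X ≤ Subgroup.normalizer (V : Set G)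
  · exact hE.false_of_le_normalizer hV
  · exact hE.false_of_not_le_normalizer hV

end Cfsg.Agent.Lib.NilpotentPPrime
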